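import Mathlib
import Groth.Prelude
import Groth.Agent.Lib.Helper8.UnivCpl3
import Groth.Agent.Lib.Helper8.GSF1
import Groth.Agent.Lib.Helper3.UInj9
import Groth.Agent.Lib.Helper1.XLowD

/-!
# helper7: an elementwise description of the associated primes of a fibre module

For an `R`-algebra `S`, an `S`-module `X`, a prime `p` of `R` and a prime `q` of `S` over `p`:
the extension of `q` to the fibre ring is an associated prime of the fibre module if and only if
some element `x` of `X` has the property that `b ∈ q` exactly when a power of `b` kills the image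
of `x` in the fibre module; and an element of `X` vanishes in the fibre module exactly when a
multiple by an element outside `p` lies in `p X`.
-/

set_option linter.style.haveILetI false
set_option linter.unusedVariables false
set_option linter.unusedSectionVars false
set_option autoImplicit false
set_option backward.isDefEq.respectTransparency.types false
set_option synthInstance.maxHeartbeats 400000
set_option maxHeartbeats 1600000

universe u

open TensorProduct

namespace Groth.Agent.Helper7.ImpDesc

attribute [local instance] Algebra.TensorProduct.rightAlgebra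

section Fibre

variable {R S : Type u} [CommRing R] [CommRing S] [Algebra R S] (p : Ideal R) [p.IsPrime]
  (X : Type u) [AddCommGroup X] [Module S X] [Module R X] [IsScalarTower R S X]

variable (S) in
/-- the image of `x` in the fibre module, as an element of the tensor product -/
noncomputable def im (x : X) : (p.Fiber S) ⊗[S] X := (1 : p.Fiber S) ⊗ₜ[S] x

theorem im_add (x y : X) : im S p X (x + y) = im S p X x + im S p X y := TensorProduct.tmul_add _ _ _

theorem im_zero : im S p X (0 : X) = 0 := TensorProduct.tmul_zero _ _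

theorem one_tmul_smul_im (s : S) (x : X) :
    ((1 : p.ResidueField) ⊗ₜ[R] s : p.Fiber S) • im S p X x = im S p X (s • x) :=
  Groth.Agent.Helper8.UnivCpl.one_tmul_smul_toFiberMod p X s x

theorem one_tmul_pow_smul_im (s : S) (k : ℕ) (x : X) :
    ((1 : p.ResidueField) ⊗ₜ[R] s : p.Fiber S) ^ k • im S p X x = im S p X (s ^ k • x) := by
  rw [Algebra.TensorProduct.tmul_pow, one_pow]
  exact one_tmul_smul_im p X (s ^ k) x

theorem algebraMap_smul_im (r : R) (x : X) :
    algebraMap R (p.Fiber S) r • im S p X x = im S p X (r • x) := by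
  have h1 : algebraMap R (p.Fiber S) r = ((1 : p.ResidueField) ⊗ₜ[R] (algebraMap R S r) : p.Fiber S) := by
    rw [Algebra.TensorProduct.algebraMap_apply, Algebra.algebraMap_eq_smul_one (A := p.ResidueField),
      Algebra.algebraMap_eq_smul_one (A := S), TensorProduct.smul_tmul]
  rw [h1, one_tmul_smul_im, algebraMap_smul]

theorem isUnit_algebraMap {r : R} (hr : r ∉ p) : IsUnit (algebraMap R (p.Fiber S) r) :=
  Groth.Agent.Helper8.UnivCpl.isUnit_algebraMap_fiber (S := S) p hr

/-- every element of the fibre module is, up to a unit, the image of an element of `X` -/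
theorem exists_smul_eq_im (z : (p.Fiber S) ⊗[S] X) :
    ∃ r : R, r ∉ p ∧ ∃ x : X, algebraMap R (p.Fiber S) r • z = im S p X x := by
  induction z using TensorProduct.induction_on with
  | zero =>
    refine ⟨1, fun h => (Ideal.IsPrime.ne_top ‹_›) ((Ideal.eq_top_iff_one _).mpr h), 0, ?_⟩
    rw [smul_zero, im_zero]
  | tmul c x =>
    obtain ⟨r, hr, s, hs⟩ := Ideal.Fiber.exists_smul_eq_one_tmul p c
    refine ⟨r, hr, s • x, ?_⟩
    rw [← one_tmul_smul_im, ← hs]
    unfold im
    rw [TensorProduct.smul_tmul', TensorProduct.smul_tmul', smul_eq_mul, smul_eq_mul, mul_one,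
      Algebra.smul_def]
  | add z₁ z₂ h₁ h₂ =>
    obtain ⟨r₁, hr₁, x₁, e₁⟩ := h₁
    obtain ⟨r₂, hr₂, x₂, e₂⟩ := h₂
    refine ⟨r₁ * r₂, fun h => (Ideal.IsPrime.mem_or_mem ‹_› h).elim hr₁ hr₂,
      r₂ • x₁ + r₁ • x₂, ?_⟩
    rw [smul_add, im_add, ← algebraMap_smul_im, ← algebraMap_smul_im, ← e₁, ← e₂, map_mul,
      smul_smul, smul_smul, mul_comm (algebraMap R (p.Fiber S) r₂)]

/-- an element of `X` vanishes in the fibre module iff a multiple outside `p` lies in `p X` -/
theorem im_eq_zero_iff (y : X) :
    im S p X y = 0 ↔ ∃ s : R, s ∉ p ∧ s • y ∈ p • (⊤ : Submodule R X) := by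
  constructor
  · intro h
    have h1 : y ⊗ₜ[R] (1 : p.ResidueField) = 0 := by
      rw [← Groth.Agent.Helper8.UnivCpl.fibreEquiv_one_tmul (S := S) p X y]
      have : ((1 : p.Fiber S) ⊗ₜ[S] y : (p.Fiber S) ⊗[S] X) = 0 := h
      rw [this, map_zero]
    have h2 : (1 : p.ResidueField) ⊗ₜ[R] y = 0 := by
      have := congrArg (TensorProduct.comm R X p.ResidueField) h1
      rwa [TensorProduct.comm_tmul, map_zero] at this
    exact Groth.Agent.Helper1.XLowD.exists_smul_mem_of_tmul_eq_zero p X y h2
  · rintro ⟨s, hs, hmem⟩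
    have hc : algebraMap R p.ResidueField s ≠ 0 :=
      fun h0 => hs (Ideal.algebraMap_residueField_eq_zero.mp h0)
    have key : ∀ w ∈ p • (⊤ : Submodule R X), ∀ d : p.ResidueField, w ⊗ₜ[R] d = 0 := by
      intro w hw d
      refine Submodule.smul_induction_on hw ?_ ?_
      · intro a ha x _
        rw [TensorProduct.smul_tmul, Algebra.smul_def,
          Ideal.algebraMap_residueField_eq_zero.mpr ha, zero_mul, TensorProduct.tmul_zero]
      · intro w₁ w₂ h₁ h₂
        rw [TensorProduct.add_tmul, h₁, h₂, add_zero]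
    have h1 : y ⊗ₜ[R] (1 : p.ResidueField) = 0 := by
      have e : (1 : p.ResidueField) = s • (algebraMap R p.ResidueField s)⁻¹ := by
        rw [Algebra.smul_def, mul_inv_cancel₀ hc]
      rw [e, ← TensorProduct.smul_tmul]
      exact key _ hmem _
    apply (Groth.Agent.Helper8.UnivCpl.fibreEquiv (S := S) p X).injective
    unfold im
    rw [Groth.Agent.Helper8.UnivCpl.fibreEquiv_one_tmul, h1, map_zero]

/-- **Elementwise description of associated primes of a fibre module.** -/
theorem mem_ass_iff (q : Ideal S) [q.IsPrime] [q.LiesOver p] :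
    FlatCA.fiberIdeal p q ∈ associatedPrimes (p.Fiber S) (FlatCA.fiberMod p S X) ↔
      ∃ x : X, ∀ b : S, b ∈ q ↔ ∃ k : ℕ, im S p X (b ^ k • x) = 0 := by
  obtain ⟨hQp, hQ⟩ := Groth.Agent.Helper8.GSF.fiberIdeal_isPrime_and_mem_iff p q
  change FlatCA.fiberIdeal p q ∈ associatedPrimes (p.Fiber S) ((p.Fiber S) ⊗[S] X) ↔ _
  constructor
  · rintro ⟨_, z, hz⟩
    obtain ⟨r, hr, x, hx⟩ := exists_smul_eq_im p X z
    have hu := isUnit_algebraMap (S := S) p hr
    refine ⟨x, fun b => ?_⟩
    rw [← hQ b, hz, Ideal.mem_radical_iff]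
    refine exists_congr fun k => ?_
    rw [Submodule.mem_colon_singleton, Submodule.mem_bot]
    have e : algebraMap R (p.Fiber S) r • (((1 : p.ResidueField) ⊗ₜ[R] b : p.Fiber S) ^ k • z)
        = im S p X (b ^ k • x) := by
      rw [smul_comm, hx, one_tmul_pow_smul_im]
    constructor
    · intro h0
      rw [← e, h0, smul_zero]
    · intro h1
      exact (hu.smul_eq_zero).mp (e.trans h1)
  · rintro ⟨x, hx⟩
    refine ⟨hQp, im S p X x, ?_⟩
    ext c
    obtain ⟨r, hr, s, hs⟩ := Ideal.Fiber.exists_smul_eq_one_tmul p c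
    have hu := isUnit_algebraMap (S := S) p hr
    rw [← Ideal.unit_mul_mem_iff_mem _ hu (x := c), ← Algebra.smul_def, hs, hQ s, hx s,
      Ideal.mem_radical_iff]
    refine exists_congr fun k => ?_
    rw [Submodule.mem_colon_singleton, Submodule.mem_bot, ← one_tmul_pow_smul_im, ← hs,
      Algebra.smul_def, mul_pow, mul_smul, (hu.pow k).smul_eq_zero]

end Fibre

end Groth.Agent.Helper7.ImpDesc
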