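import Mathlib
import Groth.Prelude
import Groth.Agent.Lib.Helper7.ImpDesc.Fibre

/-!
# helper7: descending an impurity to a finite stage

Given an impurity of a `B`-module `N` above a prime `p` of `A` with base change ring `A'`, there is a
finite list of elements of `A'` such that, for every `A`-algebra `G` mapping to `A'` whose image
contains the list, the base change of `(B, N)` to `G` together with the contracted primes is again
an impurity above `p`.
-/

set_option linter.style.haveILetI false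
set_option linter.unusedVariables false
set_option linter.unusedSectionVars false
set_option autoImplicit false
set_option backward.isDefEq.respectTransparency.types false
set_option synthInstance.maxHeartbeats 400000
set_option maxHeartbeats 1600000

universe u

open TensorProduct

namespace Groth.Agent.Helper7.ImpDesc

attribute [local instance] Algebra.TensorProduct.rightAlgebra

section Rep

variable {A B : Type u} [CommRing A] [CommRing B] [Algebra A B]
  {A' B' : Type u} [CommRing A'] [CommRing B'] [Algebra A A'] [Algebra B B']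
  [Algebra A' B'] [Algebra A B'] [IsScalarTower A B B'] [IsScalarTower A A' B']

/-- elements of the extension of an ideal `t` of `A'` to the pushout `B'`, written out -/
theorem exists_list_of_mem_map [Algebra.IsPushout A B A' B'] (t : Ideal A') (y : B')
    (hy : y ∈ t.map (algebraMap A' B')) :
    ∃ L : List (A' × B), (∀ i ∈ L, i.1 ∈ t) ∧
      y = (L.map fun i => algebraMap A' B' i.1 * algebraMap B B' i.2).sum := by
  haveI : Algebra.IsPushout A A' B B' := Algebra.IsPushout.symm inferInstance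
  have hbc : IsBaseChange A' (IsScalarTower.toAlgHom A B B').toLinearMap := Algebra.IsPushout.out
  have step : ∀ b' : B', ∀ a ∈ t, ∃ L : List (A' × B), (∀ i ∈ L, i.1 ∈ t) ∧
      a • b' = (L.map fun i => algebraMap A' B' i.1 * algebraMap B B' i.2).sum := by
    intro b'
    refine hbc.inductionOn b' (fun b' => ∀ a ∈ t, ∃ L : List (A' × B), (∀ i ∈ L, i.1 ∈ t) ∧
      a • b' = (L.map fun i => algebraMap A' B' i.1 * algebraMap B B' i.2).sum) ?_ ?_ ?_ ?_
    · intro a ha
      exact ⟨[], by simp, by simp⟩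
    · intro b a ha
      refine ⟨[(a, b)], ?_, ?_⟩
      · intro i hi
        rw [List.mem_singleton] at hi
        rw [hi]
        exact ha
      · simp [Algebra.smul_def]
    · intro a' x ih a ha
      obtain ⟨L, hL, e⟩ := ih (a * a') (t.mul_mem_right a' ha)
      exact ⟨L, hL, by rw [← e, mul_smul]⟩
    · intro x y ihx ihy a ha
      obtain ⟨L₁, h₁, e₁⟩ := ihx a ha
      obtain ⟨L₂, h₂, e₂⟩ := ihy a ha
      refine ⟨L₁ ++ L₂, ?_, ?_⟩
      · intro i hi
        rcases List.mem_append.mp hi with h | h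
        exacts [h₁ i h, h₂ i h]
      · rw [smul_add, e₁, e₂, List.map_append, List.sum_append]
  have hy' : y ∈ t • (⊤ : Submodule A' B') := by
    rw [Ideal.smul_top_eq_map]
    exact hy
  refine Submodule.smul_induction_on hy' ?_ ?_
  · intro a ha b' _
    exact step b' a ha
  · rintro x y ⟨L₁, h₁, e₁⟩ ⟨L₂, h₂, e₂⟩
    exact ⟨L₁ ++ L₂, fun i hi => (List.mem_append.mp hi).elim (h₁ i) (h₂ i),
      by rw [e₁, e₂, List.map_append, List.sum_append]⟩

/-- if no prime above `P` lies over `t`, some element outside `t` lies in `P + t B'` -/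
theorem exists_data_upstairs [Algebra.IsPushout A B A' B'] (t : Ideal A') [t.IsPrime]
    (P : Ideal B') [P.IsPrime]
    (hno : ∀ (P' : Ideal B') [P'.IsPrime], P ≤ P' → ¬ P'.LiesOver t) :
    ∃ (s' : A') (x : B') (L : List (A' × B)), s' ∉ t ∧ x ∈ P ∧ (∀ i ∈ L, i.1 ∈ t) ∧
      algebraMap A' B' s' =
        x + (L.map fun i => algebraMap A' B' i.1 * algebraMap B B' i.2).sum := by
  have hnd : ¬ Disjoint ((P ⊔ t.map (algebraMap A' B') : Ideal B') : Set B')
      (Algebra.algebraMapSubmonoid B' t.primeCompl : Set B') := by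
    intro hdisj
    obtain ⟨P', hP'prime, hle, hP'disj⟩ := Ideal.exists_le_prime_disjoint _ _ hdisj
    haveI := hP'prime
    refine hno P' (le_sup_left.trans hle) ⟨?_⟩
    apply le_antisymm
    · intro a ha
      exact hle (Ideal.mem_sup_right (Ideal.mem_map_of_mem _ ha))
    · intro a ha
      by_contra hat
      exact Set.disjoint_left.mp hP'disj ha
        (Algebra.mem_algebraMapSubmonoid_of_mem (⟨a, hat⟩ : t.primeCompl))
  rw [Set.not_disjoint_iff] at hnd
  obtain ⟨z, hzI, hzS⟩ := hnd
  obtain ⟨s', hs', rfl⟩ := Submonoid.mem_map.mp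
    (show z ∈ Submonoid.map (algebraMap A' B') t.primeCompl from hzS)
  obtain ⟨x, hx, y, hy, exy⟩ := Submodule.mem_sup.mp hzI
  obtain ⟨L, hL, eL⟩ := exists_list_of_mem_map (A := A) (B := B) t y hy
  exact ⟨s', x, L, hs', hx, hL, by rw [← exy, eL]⟩

end Rep

section Stage

variable {A B : Type u} [CommRing A] [CommRing B] [Algebra A B] (N : Type u) [AddCommGroup N]
  [Module B N]
  (A' B' N' : Type u) [CommRing A'] [CommRing B'] [Algebra A A'] [Algebra B B']
  [Algebra A' B'] [Algebra A B'] [IsScalarTower A B B'] [IsScalarTower A A' B']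
  [AddCommGroup N'] [Module B' N'] [Module B N'] [IsScalarTower B B' N'] [Module A' N']
  [IsScalarTower A' B' N'] (f : N →ₗ[B] N')
  (G : Type u) [CommRing G] [Algebra A G] [Algebra G A'] [IsScalarTower A G A']

/-- the comparison map from the stage pushout to the big pushout -/
noncomputable def phi : B ⊗[A] G →ₐ[A] B' :=
  Algebra.TensorProduct.productMap (IsScalarTower.toAlgHom A B B')
    ((IsScalarTower.toAlgHom A A' B').comp (IsScalarTower.toAlgHom A G A'))

theorem phi_tmul (b : B) (g : G) :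
    phi A' B' G (b ⊗ₜ[A] g) = algebraMap B B' b * algebraMap A' B' (algebraMap G A' g) := by
  simp [phi]

theorem phi_algebraMap_B (b : B) :
    phi A' B' G (algebraMap B (B ⊗[A] G) b) = algebraMap B B' b := by
  rw [Algebra.TensorProduct.algebraMap_apply, phi_tmul, map_one, map_one, mul_one]
  rfl

theorem phi_algebraMap_G (g : G) :
    phi A' B' G (algebraMap G (B ⊗[A] G) g) = algebraMap A' B' (algebraMap G A' g) := by
  have h : algebraMap G (B ⊗[A] G) g = (1 : B) ⊗ₜ[A] g := rfl
  rw [h, phi_tmul, map_one, one_mul]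

/-- the comparison map from the stage base change of `N` to the big one -/
noncomputable def psi : (B ⊗[A] G) ⊗[B] N →ₗ[B] N' :=
  TensorProduct.lift (LinearMap.mk₂ B (fun (c : B ⊗[A] G) (n : N) => phi A' B' G c • f n)
    (fun c₁ c₂ n => by rw [map_add, add_smul])
    (fun b c n => by
      rw [Algebra.smul_def, map_mul, phi_algebraMap_B, mul_smul, algebraMap_smul])
    (fun c n₁ n₂ => by rw [map_add, smul_add])
    (fun b c n => by rw [map_smul, smul_comm]))

theorem psi_tmul (c : B ⊗[A] G) (n : N) :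
    psi N A' B' N' f G (c ⊗ₜ[B] n) = phi A' B' G c • f n := by
  simp [psi]

theorem psi_smul (c : B ⊗[A] G) (y : (B ⊗[A] G) ⊗[B] N) :
    psi N A' B' N' f G (c • y) = phi A' B' G c • psi N A' B' N' f G y := by
  induction y using TensorProduct.induction_on with
  | zero => simp
  | tmul d n =>
    rw [TensorProduct.smul_tmul', psi_tmul, psi_tmul, smul_eq_mul, map_mul, mul_smul]
  | add y₁ y₂ h₁ h₂ => rw [smul_add, map_add, map_add, h₁, h₂, smul_add]

theorem psi_smul_G (g : G) (y : (B ⊗[A] G) ⊗[B] N) :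
    psi N A' B' N' f G (g • y) = algebraMap G A' g • psi N A' B' N' f G y := by
  rw [← algebraMap_smul (B ⊗[A] G) g y, psi_smul, phi_algebraMap_G, algebraMap_smul]

theorem psi_one_tmul (n : N) :
    psi N A' B' N' f G ((1 : B ⊗[A] G) ⊗ₜ[B] n) = f n := by
  rw [psi_tmul, map_one, one_smul]


section WithA

variable [Module A N] [IsScalarTower A B N] [Module A N'] [IsScalarTower A B N']
  [IsScalarTower A A' N']

theorem isBaseChange_restrict [Algebra.IsPushout A B A' B'] (hf : IsBaseChange B' f) :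
    IsBaseChange A' (f.restrictScalars A) := by
  haveI : Algebra.IsPushout A A' B B' := Algebra.IsPushout.symm inferInstance
  let e : A' ⊗[A] N ≃ₗ[A'] N' :=
    (Algebra.IsPushout.cancelBaseChange A A' B B' N).symm ≪≫ₗ (hf.equiv.restrictScalars A')
  refine IsBaseChange.of_equiv e ?_
  intro n
  simp [e, Algebra.IsPushout.cancelBaseChange_symm_tmul, IsBaseChange.equiv_tmul]

theorem exists_list_of_isBaseChange (hBC : IsBaseChange A' (f.restrictScalars A)) (n' : N') :
    ∃ L : List (A' × N), n' = (L.map fun i => i.1 • f i.2).sum := by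
  refine hBC.inductionOn n' (fun n' => ∃ L : List (A' × N), n' = (L.map fun i => i.1 • f i.2).sum)
    ⟨[], by simp⟩ (fun n => ⟨[(1, n)], by simp⟩) ?_ ?_
  · rintro a x ⟨L, e⟩
    refine ⟨L.map fun i => (a * i.1, i.2), ?_⟩
    rw [e]
    clear e
    induction L with
    | nil => simp
    | cons h T ih =>
      rw [List.map_cons, List.sum_cons, smul_add, ih, List.map_cons, List.map_cons, List.sum_cons,
        mul_smul]
  · rintro x y ⟨L₁, e₁⟩ ⟨L₂, e₂⟩
    exact ⟨L₁ ++ L₂, by rw [e₁, e₂, List.map_append, List.sum_append]⟩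

theorem one_tmul_smul_A (a : A) (n : N) :
    (1 : B ⊗[A] G) ⊗ₜ[B] (a • n) = (algebraMap A G a) • ((1 : B ⊗[A] G) ⊗ₜ[B] n) := by
  have e : algebraMap A B a • (1 : B ⊗[A] G) = algebraMap A G a • (1 : B ⊗[A] G) := by
    rw [← Algebra.algebraMap_eq_smul_one, ← Algebra.algebraMap_eq_smul_one,
      ← IsScalarTower.algebraMap_apply A B, ← IsScalarTower.algebraMap_apply A G]
  rw [← algebraMap_smul B a n, ← TensorProduct.smul_tmul, TensorProduct.smul_tmul', e]

theorem tmul_tmul_eq (b : B) (g : G) (n : N) :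
    (b ⊗ₜ[A] g : B ⊗[A] G) ⊗ₜ[B] n = g • ((1 : B ⊗[A] G) ⊗ₜ[B] (b • n)) := by
  have e : b • (g • (1 : B ⊗[A] G)) = b ⊗ₜ[A] g := by
    have h1 : g • (1 : B ⊗[A] G) = (1 : B) ⊗ₜ[A] g := by
      rw [← Algebra.algebraMap_eq_smul_one]
      rfl
    rw [h1, TensorProduct.smul_tmul', smul_eq_mul, mul_one]
  rw [TensorProduct.smul_tmul', ← TensorProduct.smul_tmul, e]

end WithA

theorem key_fwd (t' : Ideal A') [t'.IsPrime] (y : (B ⊗[A] G) ⊗[B] N)
    (h : im (B ⊗[A] G) (t'.comap (algebraMap G A')) ((B ⊗[A] G) ⊗[B] N) y = 0) :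
    im B' t' N' (psi N A' B' N' f G y) = 0 := by
  rw [im_eq_zero_iff] at h ⊢
  obtain ⟨s, hs, hmem⟩ := h
  refine ⟨algebraMap G A' s, hs, ?_⟩
  rw [← psi_smul_G]
  refine Submodule.smul_induction_on hmem ?_ ?_
  · intro a ha x _
    rw [psi_smul_G]
    exact Submodule.smul_mem_smul ha Submodule.mem_top
  · intro x y hx hy
    rw [map_add]
    exact Submodule.add_mem _ hx hy

theorem key_bwd [Module A N] [IsScalarTower A B N] [Module A N'] [IsScalarTower A B N']
    [IsScalarTower A A' N'] (hBC : IsBaseChange A' (f.restrictScalars A))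
    (t' : Ideal A') [t'.IsPrime] (y : (B ⊗[A] G) ⊗[B] N)
    (h : im B' t' N' (psi N A' B' N' f G y) = 0) :
    im (B ⊗[A] G) (t'.comap (algebraMap G A')) ((B ⊗[A] G) ⊗[B] N) y = 0 := by
  rw [im_eq_zero_iff] at h ⊢
  obtain ⟨s, hs, hmem⟩ := h
  apply Groth.Agent.Helper1.XLowD.exists_smul_mem_of_tmul_eq_zero
  by_contra hne
  obtain ⟨lam, hlam⟩ := LinearMap.exists_leftInverse_of_injective
    (LinearMap.toSpanSingleton (t'.comap (algebraMap G A')).ResidueField
      ((t'.comap (algebraMap G A')).ResidueField ⊗[G] ((B ⊗[A] G) ⊗[B] N))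
      ((1 : (t'.comap (algebraMap G A')).ResidueField) ⊗ₜ[G] y))
    (LinearMap.ker_toSpanSingleton _ hne)
  have hlam1 : lam ((1 : (t'.comap (algebraMap G A')).ResidueField) ⊗ₜ[G] y) = 1 := by
    have := LinearMap.congr_fun hlam 1
    simpa using this
  let μ : (B ⊗[A] G) ⊗[B] N →ₗ[G] (t'.comap (algebraMap G A')).ResidueField :=
    (lam.restrictScalars G) ∘ₗ
      (TensorProduct.mk G (t'.comap (algebraMap G A')).ResidueField ((B ⊗[A] G) ⊗[B] N) 1)
  have hμ : ∀ w, μ w = lam ((1 : (t'.comap (algebraMap G A')).ResidueField) ⊗ₜ[G] w) :=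
    fun w => rfl
  let ι : (t'.comap (algebraMap G A')).ResidueField →+* t'.ResidueField :=
    Ideal.ResidueField.map (t'.comap (algebraMap G A')) t' (algebraMap G A') rfl
  have hι : ∀ (g : G) (x : (t'.comap (algebraMap G A')).ResidueField),
      ι (g • x) = algebraMap G A' g • ι x := by
    intro g x
    rw [Algebra.smul_def, map_mul, Ideal.ResidueField.map_algebraMap, Algebra.smul_def]
  let g₀ : N →ₗ[A] t'.ResidueField :=
    { toFun := fun n => ι (μ ((1 : B ⊗[A] G) ⊗ₜ[B] n))
      map_add' := fun n₁ n₂ => by rw [TensorProduct.tmul_add, map_add, map_add]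
      map_smul' := fun a n => by
        rw [one_tmul_smul_A, map_smul, hι, ← IsScalarTower.algebraMap_apply, RingHom.id_apply,
          algebraMap_smul] }
  have hg₀ : ∀ n, g₀ n = ι (μ ((1 : B ⊗[A] G) ⊗ₜ[B] n)) := fun n => rfl
  let Λ : N' →ₗ[A'] t'.ResidueField := hBC.lift g₀
  have hΛf : ∀ n, Λ (f n) = g₀ n := fun n => hBC.lift_eq g₀ n
  have claim : ∀ w, Λ (psi N A' B' N' f G w) = ι (μ w) := by
    intro w
    induction w using TensorProduct.induction_on with
    | zero => simp
    | add w₁ w₂ h₁ h₂ => rw [map_add, map_add, map_add, map_add, h₁, h₂]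
    | tmul c n =>
      induction c using TensorProduct.induction_on with
      | zero => simp
      | add c₁ c₂ h₁ h₂ =>
        rw [TensorProduct.add_tmul, map_add, map_add, map_add, map_add, h₁, h₂]
      | tmul b g =>
        rw [tmul_tmul_eq, psi_smul_G, map_smul, psi_one_tmul, hΛf, hg₀, map_smul, hι]
  have hΛ0 : ∀ w ∈ t' • (⊤ : Submodule A' N'), Λ w = 0 := by
    intro w hw
    refine Submodule.smul_induction_on hw ?_ ?_
    · intro a ha x _
      rw [map_smul, Algebra.smul_def, Ideal.algebraMap_residueField_eq_zero.mpr ha, zero_mul]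
    · intro x y hx hy
      rw [map_add, hx, hy, add_zero]
  have h0 := hΛ0 _ hmem
  rw [map_smul, claim, hμ, hlam1, map_one, Algebra.smul_def, mul_one,
    Ideal.algebraMap_residueField_eq_zero] at h0
  exact hs h0

theorem liesOver_stage (t' : Ideal A') (P : Ideal B') [P.LiesOver t'] :
    (P.comap (phi (A := A) (B := B) A' B' G)).LiesOver (t'.comap (algebraMap G A')) := by
  constructor
  ext g
  have h1 : algebraMap G A' g ∈ t' ↔ algebraMap A' B' (algebraMap G A' g) ∈ P := by
    conv_lhs => rw [Ideal.over_def P t']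
    rfl
  change algebraMap G A' g ∈ t' ↔ phi A' B' G (algebraMap G (B ⊗[A] G) g) ∈ P
  rw [phi_algebraMap_G]
  exact h1

theorem liesOver_base (p : Ideal A) (t : Ideal A') [t.LiesOver p] :
    (t.comap (algebraMap G A')).LiesOver p := by
  constructor
  ext a
  change a ∈ p ↔ algebraMap G A' (algebraMap A G a) ∈ t
  rw [← IsScalarTower.algebraMap_apply, Ideal.over_def t p]
  rfl

theorem stage_sum (t : Ideal A') (L : List (A' × B)) (hL : ∀ i ∈ L, i.1 ∈ t)
    (hLr : ∀ i ∈ L, i.1 ∈ Set.range (algebraMap G A')) :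
    ∃ x₂ ∈ (t.comap (algebraMap G A')).map (algebraMap G (B ⊗[A] G)),
      phi A' B' G x₂ = (L.map fun i => algebraMap A' B' i.1 * algebraMap B B' i.2).sum := by
  induction L with
  | nil => exact ⟨0, Ideal.zero_mem _, by simp⟩
  | cons a T ih =>
    obtain ⟨x₂, hx₂, e⟩ := ih (fun i hi => hL i (List.mem_cons_of_mem _ hi))
      (fun i hi => hLr i (List.mem_cons_of_mem _ hi))
    obtain ⟨g, hg⟩ := hLr a List.mem_cons_self
    have hgt : g ∈ t.comap (algebraMap G A') := by
      rw [Ideal.mem_comap, hg]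
      exact hL a List.mem_cons_self
    refine ⟨algebraMap G (B ⊗[A] G) g * algebraMap B (B ⊗[A] G) a.2 + x₂,
      Ideal.add_mem _ (Ideal.mul_mem_right _ _ (Ideal.mem_map_of_mem _ hgt)) hx₂, ?_⟩
    rw [map_add, map_mul, phi_algebraMap_G, phi_algebraMap_B, e, hg, List.map_cons, List.sum_cons]

theorem exists_psi_eq (Ln : List (A' × N))
    (h : ∀ i ∈ Ln, i.1 ∈ Set.range (algebraMap G A')) :
    ∃ n'' : (B ⊗[A] G) ⊗[B] N,
      psi N A' B' N' f G n'' = (Ln.map fun i => i.1 • f i.2).sum := by
  induction Ln with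
  | nil => exact ⟨0, by simp⟩
  | cons a T ih =>
    obtain ⟨m, hm⟩ := ih (fun i hi => h i (List.mem_cons_of_mem _ hi))
    obtain ⟨g, hg⟩ := h a List.mem_cons_self
    refine ⟨g • ((1 : B ⊗[A] G) ⊗ₜ[B] a.2) + m, ?_⟩
    rw [map_add, psi_smul_G, psi_one_tmul, hm, hg, List.map_cons, List.sum_cons]

theorem not_over_stage (t : Ideal A') [t.IsPrime] (P : Ideal B')
    (s' : A') (hs' : s' ∉ t) (hsr : s' ∈ Set.range (algebraMap G A'))
    (x : B') (hx : x ∈ P) (L : List (A' × B)) (hL : ∀ i ∈ L, i.1 ∈ t)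
    (hLr : ∀ i ∈ L, i.1 ∈ Set.range (algebraMap G A'))
    (e : algebraMap A' B' s' =
      x + (L.map fun i => algebraMap A' B' i.1 * algebraMap B B' i.2).sum)
    (P'' : Ideal (B ⊗[A] G)) (hP : P.comap (phi A' B' G) ≤ P'')
    (hover : P''.LiesOver (t.comap (algebraMap G A'))) : False := by
  obtain ⟨s₁, rfl⟩ := hsr
  obtain ⟨x₂, hx₂, ex₂⟩ := stage_sum (A := A) A' B' G t L hL hLr
  have h1 : algebraMap G (B ⊗[A] G) s₁ - x₂ ∈ P.comap (phi A' B' G) := by
    rw [Ideal.mem_comap, map_sub, phi_algebraMap_G, ex₂, e, add_sub_cancel_right]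
    exact hx
  have h2 : x₂ ∈ P'' := by
    have hle : (t.comap (algebraMap G A')).map (algebraMap G (B ⊗[A] G)) ≤ P'' := by
      rw [Ideal.map_le_iff_le_comap]
      exact hover.over.le
    exact hle hx₂
  have h3 : algebraMap G (B ⊗[A] G) s₁ ∈ P'' := by
    have := P''.add_mem (hP h1) h2
    rwa [sub_add_cancel] at this
  have h4 : s₁ ∈ t.comap (algebraMap G A') := by
    rw [hover.over]
    exact h3
  exact hs' h4

theorem ass_stage [Module A N] [IsScalarTower A B N] [Module A N'] [IsScalarTower A B N']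
    [IsScalarTower A A' N'] (hBC : IsBaseChange A' (f.restrictScalars A))
    (t' : Ideal A') [t'.IsPrime] (P : Ideal B') [P.IsPrime]
    [(P.comap (phi (A := A) (B := B) A' B' G)).LiesOver (t'.comap (algebraMap G A'))]
    (n'' : (B ⊗[A] G) ⊗[B] N)
    (hx : ∀ b : B', b ∈ P ↔ ∃ k : ℕ, im B' t' N' (b ^ k • psi N A' B' N' f G n'') = 0) :
    FlatCA.fiberIdeal (t'.comap (algebraMap G A')) (P.comap (phi A' B' G)) ∈
      associatedPrimes ((t'.comap (algebraMap G A')).Fiber (B ⊗[A] G))
        (FlatCA.fiberMod (t'.comap (algebraMap G A')) (B ⊗[A] G) ((B ⊗[A] G) ⊗[B] N)) := by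
  rw [mem_ass_iff]
  refine ⟨n'', fun b => ?_⟩
  rw [Ideal.mem_comap, hx (phi A' B' G b)]
  refine exists_congr fun k => ?_
  rw [← map_pow, ← psi_smul]
  exact ⟨key_bwd N A' B' N' f G hBC t' _, key_fwd N A' B' N' f G t' _⟩

/-- **Descent of an impurity to a finite stage.** -/
theorem desc (p : Ideal A) [p.IsPrime] (t' t : Ideal A') [t'.IsPrime] [t.IsPrime]
    (P : Ideal B') [P.IsPrime] (himp : FlatCA.IsImpurity A B N p A' B' N' f t' t P) :
    ∃ l : List A', ∀ (G : Type u) [CommRing G] [Algebra A G] [Algebra G A']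
      [IsScalarTower A G A'], (∀ a ∈ l, a ∈ Set.range (algebraMap G A')) →
      ∀ Q : (∀ (A'' : Type u) [CommRing A''] [Algebra A A''], Ideal A'' → Prop),
        Q G (t.comap (algebraMap G A')) → FlatCA.HasImpurity A B N p Q := by
  obtain ⟨hpush, hbc, hle, hover, hPover, hass, hno⟩ := himp
  haveI := hpush
  haveI := hover
  haveI := hPover
  letI : Module A N := Module.compHom N (algebraMap A B)
  haveI : IsScalarTower A B N := ⟨fun a b n => by
    change (a • b) • n = algebraMap A B a • (b • n)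
    rw [Algebra.smul_def, mul_smul]⟩
  letI : Module A N' := Module.compHom N' (algebraMap A B')
  haveI : IsScalarTower A B N' := ⟨fun a b n => by
    change (a • b) • n = algebraMap A B' a • (b • n)
    rw [← algebraMap_smul B' (a • b) n, ← algebraMap_smul B' b n, Algebra.smul_def, map_mul,
      ← IsScalarTower.algebraMap_apply A B B', mul_smul]⟩
  haveI : IsScalarTower A A' N' := ⟨fun a a' n => by
    change (a • a') • n = algebraMap A B' a • (a' • n)
    rw [← algebraMap_smul B' (a • a') n, ← algebraMap_smul B' a' n, Algebra.smul_def, map_mul,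
      ← IsScalarTower.algebraMap_apply A A' B', mul_smul]⟩
  have hBC : IsBaseChange A' (f.restrictScalars A) := isBaseChange_restrict N A' B' N' f hbc
  obtain ⟨n', hn'⟩ := (mem_ass_iff t' N' P).mp hass
  obtain ⟨Ln, eLn⟩ := exists_list_of_isBaseChange N A' N' f hBC n'
  obtain ⟨s', x, L, hs', hx, hL, e⟩ := exists_data_upstairs (A := A) (B := B) t P hno
  refine ⟨s' :: (Ln.map Prod.fst ++ L.map Prod.fst), ?_⟩
  intro G _ _ _ _ hl Q hQ
  have hs'r : s' ∈ Set.range (algebraMap G A') := hl s' List.mem_cons_self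
  have hLnr : ∀ i ∈ Ln, i.1 ∈ Set.range (algebraMap G A') := fun i hi =>
    hl i.1 (List.mem_cons_of_mem _ (List.mem_append_left _ (List.mem_map_of_mem hi)))
  have hLr : ∀ i ∈ L, i.1 ∈ Set.range (algebraMap G A') := fun i hi =>
    hl i.1 (List.mem_cons_of_mem _ (List.mem_append_right _ (List.mem_map_of_mem hi)))
  obtain ⟨n'', hn''⟩ := exists_psi_eq (A := A) N A' B' N' f G Ln hLnr
  have en : n' = psi (A := A) N A' B' N' f G n'' := eLn.trans hn''.symm
  rw [en] at hn'
  haveI hLO : (P.comap (phi (A := A) (B := B) A' B' G)).LiesOver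
      (t'.comap (algebraMap G A')) := liesOver_stage A' B' G t' P
  refine ⟨G, B ⊗[A] G, (B ⊗[A] G) ⊗[B] N, inferInstance, inferInstance, inferInstance,
    inferInstance, inferInstance, inferInstance, inferInstance, inferInstance, inferInstance,
    inferInstance, inferInstance, inferInstance, inferInstance, inferInstance,
    TensorProduct.mk B (B ⊗[A] G) N 1, t'.comap (algebraMap G A'), t.comap (algebraMap G A'),
    inferInstance, inferInstance, P.comap (phi (A := A) (B := B) A' B' G), inferInstance,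
    ⟨inferInstance, TensorProduct.isBaseChange B N (B ⊗[A] G), Ideal.comap_mono hle,
      liesOver_base A' G p t, hLO, ?_, ?_⟩, hQ⟩
  · exact ass_stage N A' B' N' f G hBC t' P n'' hn'
  · intro P'' _ hP hover''
    exact not_over_stage A' B' G t P s' hs' hs'r x hx L hL hLr e P'' hP hover''

end Stage

end Groth.Agent.Helper7.ImpDesc
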