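import Mathlib
import Groth.Prelude
import Groth.Agent.Lib.Helper7.ImpDesc.Stage

/-!
# helper7: transferring an impurity upwards along a map of base rings

For `A`-algebras `G → A'`, an impurity over `G` in canonical (tensor product) form at the
contractions of primes `t' ≤ t` of `A'` gives an impurity over `A'` at `t' ≤ t` (for any models of
the base changes), provided `B` is of finite type over `A`: the associated prime is lifted as a
minimal prime of the annihilator of the image of the witnessing element of the fibre module.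
Also: the descent of an impurity to a stage, in a form exposing the canonical models.
-/

set_option linter.style.haveILetI false
set_option linter.unusedVariables false
set_option linter.unusedSectionVars false
set_option autoImplicit false
set_option backward.isDefEq.respectTransparency.types false
set_option synthInstance.maxHeartbeats 400000
set_option maxHeartbeats 1600000

universe u

open TensorProduct

namespace Groth.Agent.Helper7.ImpDesc

attribute [local instance] Algebra.TensorProduct.rightAlgebra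

section Up

variable {A B : Type u} [CommRing A] [CommRing B] [Algebra A B] (N : Type u) [AddCommGroup N]
  [Module B N]
  (A' B' N' : Type u) [CommRing A'] [CommRing B'] [Algebra A A'] [Algebra B B']
  [Algebra A' B'] [Algebra A B'] [IsScalarTower A B B'] [IsScalarTower A A' B']
  [AddCommGroup N'] [Module B' N'] [Module B N'] [IsScalarTower B B' N'] [Module A' N']
  [IsScalarTower A' B' N'] (f : N →ₗ[B] N')

/-- **Descent of an impurity to a finite stage**, exposing the canonical models. -/
theorem desc_canon (p : Ideal A) [p.IsPrime] (t' t : Ideal A') [t'.IsPrime] [t.IsPrime]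
    (P : Ideal B') [P.IsPrime] (himp : FlatCA.IsImpurity A B N p A' B' N' f t' t P) :
    ∃ l : List A', ∀ (G : Type u) [CommRing G] [Algebra A G] [Algebra G A']
      [IsScalarTower A G A'], (∀ a ∈ l, a ∈ Set.range (algebraMap G A')) →
      ∀ (s' s : Ideal G) [s'.IsPrime] [s.IsPrime], s' = t'.comap (algebraMap G A') →
        s = t.comap (algebraMap G A') →
        ∃ (P₀ : Ideal (B ⊗[A] G)) (_ : P₀.IsPrime),
          FlatCA.IsImpurity A B N p G (B ⊗[A] G) ((B ⊗[A] G) ⊗[B] N)
            (TensorProduct.mk B (B ⊗[A] G) N 1) s' s P₀ := by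
  obtain ⟨hpush, hbc, hle, hover, hPover, hass, hno⟩ := himp
  haveI := hpush
  haveI := hover
  haveI := hPover
  letI : Module A N := Module.compHom N (algebraMap A B)
  haveI : IsScalarTower A B N := ⟨fun a b n => by
    change (a • b) • n = algebraMap A B a • (b • n)
    rw [Algebra.smul_def, mul_smul]⟩
  letI : Module A N' := Module.compHom N' (algebraMap A B')
  haveI : IsScalarTower A B N' := ⟨fun a b n => by
    change (a • b) • n = algebraMap A B' a • (b • n)
    rw [← algebraMap_smul B' (a • b) n, ← algebraMap_smul B' b n, Algebra.smul_def, map_mul,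
      ← IsScalarTower.algebraMap_apply A B B', mul_smul]⟩
  haveI : IsScalarTower A A' N' := ⟨fun a a' n => by
    change (a • a') • n = algebraMap A B' a • (a' • n)
    rw [← algebraMap_smul B' (a • a') n, ← algebraMap_smul B' a' n, Algebra.smul_def, map_mul,
      ← IsScalarTower.algebraMap_apply A A' B', mul_smul]⟩
  have hBC : IsBaseChange A' (f.restrictScalars A) := isBaseChange_restrict N A' B' N' f hbc
  obtain ⟨n', hn'⟩ := (mem_ass_iff t' N' P).mp hass
  obtain ⟨Ln, eLn⟩ := exists_list_of_isBaseChange N A' N' f hBC n'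
  obtain ⟨s₀, x, L, hs₀, hx, hL, e⟩ := exists_data_upstairs (A := A) (B := B) t P hno
  refine ⟨s₀ :: (Ln.map Prod.fst ++ L.map Prod.fst), ?_⟩
  intro G _ _ _ _ hl s' s _ _ hs' hs
  subst hs' hs
  have hs₀r : s₀ ∈ Set.range (algebraMap G A') := hl s₀ List.mem_cons_self
  have hLnr : ∀ i ∈ Ln, i.1 ∈ Set.range (algebraMap G A') := fun i hi =>
    hl i.1 (List.mem_cons_of_mem _ (List.mem_append_left _ (List.mem_map_of_mem hi)))
  have hLr : ∀ i ∈ L, i.1 ∈ Set.range (algebraMap G A') := fun i hi =>
    hl i.1 (List.mem_cons_of_mem _ (List.mem_append_right _ (List.mem_map_of_mem hi)))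
  obtain ⟨n'', hn''⟩ := exists_psi_eq (A := A) N A' B' N' f G Ln hLnr
  have en : n' = psi (A := A) N A' B' N' f G n'' := eLn.trans hn''.symm
  rw [en] at hn'
  haveI hLO : (P.comap (phi (A := A) (B := B) A' B' G)).LiesOver
      (t'.comap (algebraMap G A')) := liesOver_stage A' B' G t' P
  refine ⟨P.comap (phi (A := A) (B := B) A' B' G), inferInstance,
    ⟨inferInstance, TensorProduct.isBaseChange B N (B ⊗[A] G), Ideal.comap_mono hle,
      liesOver_base A' G p t, hLO, ?_, ?_⟩⟩
  · exact ass_stage N A' B' N' f G hBC t' P n'' hn'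
  · intro P'' _ hP hover''
    exact not_over_stage A' B' G t P s₀ hs₀ hs₀r x hx L hL hLr e P'' hP hover''

variable (G : Type u) [CommRing G] [Algebra A G] [Algebra G A'] [IsScalarTower A G A']

/-- lifting an associated prime of the fibre module from a stage to the big base change -/
theorem ass_up [Module A N] [IsScalarTower A B N] [Module A N'] [IsScalarTower A B N']
    [IsScalarTower A A' N'] (hBC : IsBaseChange A' (f.restrictScalars A))
    (t' : Ideal A') [t'.IsPrime] [IsNoetherianRing (t'.Fiber B')]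
    (P₀ : Ideal (B ⊗[A] G)) [P₀.IsPrime] [P₀.LiesOver (t'.comap (algebraMap G A'))]
    (hass : FlatCA.fiberIdeal (t'.comap (algebraMap G A')) P₀ ∈
      associatedPrimes ((t'.comap (algebraMap G A')).Fiber (B ⊗[A] G))
        (FlatCA.fiberMod (t'.comap (algebraMap G A')) (B ⊗[A] G) ((B ⊗[A] G) ⊗[B] N))) :
    ∃ P : Ideal B', P.IsPrime ∧ P.LiesOver t' ∧ P.comap (phi A' B' G) = P₀ ∧
      FlatCA.fiberIdeal t' P ∈ associatedPrimes (t'.Fiber B') (FlatCA.fiberMod t' B' N') := by
  obtain ⟨x₀, hx₀⟩ :=
    (mem_ass_iff (t'.comap (algebraMap G A')) ((B ⊗[A] G) ⊗[B] N) P₀).mp hass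
  obtain ⟨z, hz⟩ : ∃ z : (t'.Fiber B') ⊗[B'] N', z = im B' t' N' (psi N A' B' N' f G x₀) :=
    ⟨_, rfl⟩
  obtain ⟨I, hI⟩ : ∃ I : Ideal (t'.Fiber B'),
      I = Submodule.colon (⊥ : Submodule (t'.Fiber B') ((t'.Fiber B') ⊗[B'] N')) {z} := ⟨_, rfl⟩
  obtain ⟨θ, hθ⟩ : ∃ θ : (B ⊗[A] G) →+* t'.Fiber B',
      ∀ b, θ b = ((1 : t'.ResidueField) ⊗ₜ[A'] (phi A' B' G b) : t'.Fiber B') :=
    ⟨(Algebra.TensorProduct.includeRight (R := A') (A := t'.ResidueField)
      (B := B')).toRingHom.comp (phi A' B' G).toRingHom, fun b => rfl⟩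
  have hmemI : ∀ (b : B ⊗[A] G) (k : ℕ), (θ b) ^ k ∈ I ↔
      im (B ⊗[A] G) (t'.comap (algebraMap G A')) ((B ⊗[A] G) ⊗[B] N) (b ^ k • x₀) = 0 := by
    intro b k
    rw [hI, Submodule.mem_colon_singleton, Submodule.mem_bot, hθ, hz, one_tmul_pow_smul_im,
      ← map_pow, ← psi_smul]
    exact ⟨key_bwd N A' B' N' f G hBC t' _, key_fwd N A' B' N' f G t' _⟩
  have hdisj : Disjoint (I : Set (t'.Fiber B'))
      ((Submonoid.map θ P₀.primeCompl : Submonoid (t'.Fiber B')) : Set (t'.Fiber B')) := by
    rw [Set.disjoint_left]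
    intro c hcI hcT
    obtain ⟨b, hb, rfl⟩ := Submonoid.mem_map.mp hcT
    have h1 := (hmemI b 1).mp (by rwa [pow_one])
    exact (Ideal.mem_primeCompl_iff.mp hb) ((hx₀ b).mpr ⟨1, h1⟩)
  obtain ⟨Q', hQ'prime, hIQ', hQ'disj⟩ := Ideal.exists_le_prime_disjoint I _ hdisj
  haveI := hQ'prime
  obtain ⟨Q, hQmin, hQle⟩ := Ideal.exists_minimalPrimes_le hIQ'
  have hQprime : Q.IsPrime := hQmin.1.1
  have hIQ : I ≤ Q := hQmin.1.2
  haveI := hQprime
  rw [hI] at hQmin
  obtain ⟨y, hy⟩ := Submodule.exists_eq_colon_of_mem_minimalPrimes hQmin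
  have hQass : Q ∈ associatedPrimes (t'.Fiber B') ((t'.Fiber B') ⊗[B'] N') := by
    refine ⟨hQprime, y, ?_⟩
    rw [← hy]
    exact hQprime.radical.symm
  refine ⟨Q.comap (Algebra.TensorProduct.includeRight (R := A') (A := t'.ResidueField)
      (B := B')).toRingHom, inferInstance, ?_, ?_, ?_⟩
  · constructor
    ext r
    change r ∈ t' ↔ ((1 : t'.ResidueField) ⊗ₜ[A'] (algebraMap A' B' r) : t'.Fiber B') ∈ Q
    have h1 : ((1 : t'.ResidueField) ⊗ₜ[A'] (algebraMap A' B' r) : t'.Fiber B')
        = algebraMap A' (t'.Fiber B') r := by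
      rw [Algebra.TensorProduct.algebraMap_apply,
        Algebra.algebraMap_eq_smul_one (A := t'.ResidueField),
        Algebra.algebraMap_eq_smul_one (A := B'), TensorProduct.smul_tmul]
    rw [h1]
    constructor
    · intro hr
      rw [IsScalarTower.algebraMap_apply A' t'.ResidueField (t'.Fiber B'),
        Ideal.algebraMap_residueField_eq_zero.mpr hr, map_zero]
      exact Ideal.zero_mem _
    · intro h
      by_contra hr
      exact hQprime.ne_top (Ideal.eq_top_of_isUnit_mem _ h (isUnit_algebraMap (S := B') t' hr))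
  · ext b
    have e1 : (Algebra.TensorProduct.includeRight (R := A') (A := t'.ResidueField)
        (B := B')).toRingHom (phi A' B' G b) = θ b := (hθ b).symm
    rw [Ideal.mem_comap, Ideal.mem_comap, e1]
    constructor
    · intro h
      by_contra hb
      exact Set.disjoint_left.mp hQ'disj (hQle h)
        (Submonoid.mem_map.mpr ⟨b, Ideal.mem_primeCompl_iff.mpr hb, rfl⟩)
    · intro hb
      obtain ⟨k, hk⟩ := (hx₀ b).mp hb
      exact hQprime.mem_of_pow_mem k (hIQ ((hmemI b k).mpr hk))
  · have e := Groth.Agent.Helper8.UnivCpl.fiberIdeal_eq_of_forall t'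
      (Q.comap (Algebra.TensorProduct.includeRight (R := A') (A := t'.ResidueField)
        (B := B')).toRingHom) Q (fun s => Iff.rfl)
    change FlatCA.fiberIdeal t' _ ∈ associatedPrimes (t'.Fiber B') ((t'.Fiber B') ⊗[B'] N')
    rw [← e]
    exact hQass

/-- **Transfer of an impurity upwards** from a stage (in canonical form) to the big base ring. -/
theorem up_isImpurity [Algebra.FiniteType A B] (p : Ideal A) [p.IsPrime] (t' t : Ideal A')
    [t'.IsPrime] [t.IsPrime] [Algebra.IsPushout A B A' B'] (hbc : IsBaseChange B' f)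
    (hle : t' ≤ t) (P₀ : Ideal (B ⊗[A] G)) [P₀.IsPrime]
    (himp : FlatCA.IsImpurity A B N p G (B ⊗[A] G) ((B ⊗[A] G) ⊗[B] N)
      (TensorProduct.mk B (B ⊗[A] G) N 1) (t'.comap (algebraMap G A'))
      (t.comap (algebraMap G A')) P₀) :
    ∃ (P : Ideal B') (_ : P.IsPrime), FlatCA.IsImpurity A B N p A' B' N' f t' t P := by
  obtain ⟨-, -, -, hover₀, hPover₀, hass₀, hno₀⟩ := himp
  letI : Module A N := Module.compHom N (algebraMap A B)
  haveI : IsScalarTower A B N := ⟨fun a b n => by
    change (a • b) • n = algebraMap A B a • (b • n)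
    rw [Algebra.smul_def, mul_smul]⟩
  letI : Module A N' := Module.compHom N' (algebraMap A B')
  haveI : IsScalarTower A B N' := ⟨fun a b n => by
    change (a • b) • n = algebraMap A B' a • (b • n)
    rw [← algebraMap_smul B' (a • b) n, ← algebraMap_smul B' b n, Algebra.smul_def, map_mul,
      ← IsScalarTower.algebraMap_apply A B B', mul_smul]⟩
  haveI : IsScalarTower A A' N' := ⟨fun a a' n => by
    change (a • a') • n = algebraMap A B' a • (a' • n)
    rw [← algebraMap_smul B' (a • a') n, ← algebraMap_smul B' a' n, Algebra.smul_def, map_mul,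
      ← IsScalarTower.algebraMap_apply A A' B', mul_smul]⟩
  have hBC : IsBaseChange A' (f.restrictScalars A) := isBaseChange_restrict N A' B' N' f hbc
  haveI : Algebra.FiniteType A' B' := by
    haveI : Algebra.IsPushout A A' B B' := Algebra.IsPushout.symm inferInstance
    exact Algebra.FiniteType.equiv inferInstance (Algebra.IsPushout.equiv A A' B B')
  haveI : IsNoetherianRing (t'.Fiber B') :=
    Algebra.FiniteType.isNoetherianRing t'.ResidueField _
  haveI := hPover₀
  obtain ⟨P, hPprime, hPover, hPcomap, hPass⟩ := ass_up N A' B' N' f G hBC t' P₀ hass₀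
  haveI := hPprime
  refine ⟨P, hPprime, inferInstance, hbc, hle, ?_, hPover, hPass, ?_⟩
  · constructor
    rw [hover₀.over]
    ext a
    change algebraMap G A' (algebraMap A G a) ∈ t ↔ algebraMap A A' a ∈ t
    rw [← IsScalarTower.algebraMap_apply]
  · intro P'' _ hPP'' hover''
    haveI := hover''
    refine hno₀ (P''.comap (phi A' B' G)) ?_ (liesOver_stage A' B' G t P'')
    rw [← hPcomap]
    exact Ideal.comap_mono hPP''

end Up

end Groth.Agent.Helper7.ImpDesc
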