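import Mathlib
import Groth.Prelude
import Groth.Agent.Lib.Helper7.ImpDesc.Up

/-!
# helper7: impurities based at a closed point of the fibre, over a finitely presented base

An impurity descends to a polynomial ring over the base (a stage containing the finitely many
elements which matter); there the point of the base can be replaced by a closed point of its fibre:
the closure of the associated point meets the part of the base lying under the closure of the old
point only inside a proper hypersurface, and the fibre ring is a Jacobson ring.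
-/

set_option linter.style.haveILetI false
set_option linter.unusedVariables false
set_option linter.unusedSectionVars false
set_option autoImplicit false
set_option backward.isDefEq.respectTransparency.types false
set_option synthInstance.maxHeartbeats 400000
set_option maxHeartbeats 1600000

universe u

open TensorProduct

namespace Groth.Agent.Helper7.ImpDesc

attribute [local instance] Algebra.TensorProduct.rightAlgebra

section ClosedPt

/-- primes of the fibre ring contract to primes over `p` -/
theorem comap_fibre_liesOver {R S : Type u} [CommRing R] [CommRing S] [Algebra R S] (p : Ideal R)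
    [p.IsPrime] (Q : Ideal (p.Fiber S)) [hQ : Q.IsPrime] :
    (Q.comap (Algebra.TensorProduct.includeRight (R := R) (A := p.ResidueField)
      (B := S)).toRingHom).LiesOver p := by
  constructor
  ext r
  change r ∈ p ↔ ((1 : p.ResidueField) ⊗ₜ[R] (algebraMap R S r) : p.Fiber S) ∈ Q
  have h1 : ((1 : p.ResidueField) ⊗ₜ[R] (algebraMap R S r) : p.Fiber S)
      = algebraMap R (p.Fiber S) r := by
    rw [Algebra.TensorProduct.algebraMap_apply,
      Algebra.algebraMap_eq_smul_one (A := p.ResidueField),
      Algebra.algebraMap_eq_smul_one (A := S), TensorProduct.smul_tmul]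
  rw [h1]
  constructor
  · intro hr
    rw [IsScalarTower.algebraMap_apply R p.ResidueField (p.Fiber S),
      Ideal.algebraMap_residueField_eq_zero.mpr hr, map_zero]
    exact Ideal.zero_mem _
  · intro h
    by_contra hr
    exact hQ.ne_top (Ideal.eq_top_of_isUnit_mem _ h (isUnit_algebraMap (S := S) p hr))

variable {A B : Type u} [CommRing A] [CommRing B] [Algebra A B] (N : Type u) [AddCommGroup N]
  [Module B N]
  (A' B' N' : Type u) [CommRing A'] [CommRing B'] [Algebra A A'] [Algebra B B']
  [Algebra A' B'] [Algebra A B'] [IsScalarTower A B B'] [IsScalarTower A A' B']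
  [AddCommGroup N'] [Module B' N'] [Module B N'] [IsScalarTower B B' N'] [Module A' N']
  [IsScalarTower A' B' N'] (f : N →ₗ[B] N')

/-- **Moving the base point of an impurity to a closed point of the fibre**, when the fibre ring of
the base is a Jacobson ring. -/
theorem closedPt (p : Ideal A) [p.IsPrime] (t' t : Ideal A') [t'.IsPrime] [t.IsPrime]
    (P : Ideal B') [P.IsPrime] (himp : FlatCA.IsImpurity A B N p A' B' N' f t' t P)
    [hJ : IsJacobsonRing (p.Fiber A')] :
    ∃ (t₁ : Ideal A') (_ : t₁.IsPrime), (FlatCA.fiberIdeal p t₁).IsMaximal ∧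
      FlatCA.IsImpurity A B N p A' B' N' f t' t₁ P := by
  obtain ⟨hpush, hbc, hle, hover, hPover, hass, hno⟩ := himp
  haveI := hover
  -- an element of the base outside `t` vanishing on the closure of `P` over the closure of `t`
  have hg : ∃ g : A', g ∉ t ∧ algebraMap A' B' g ∈ P ⊔ t.map (algebraMap A' B') := by
    by_contra hcon
    push Not at hcon
    have hdisj : Disjoint ((P ⊔ t.map (algebraMap A' B') : Ideal B') : Set B')
        ((t.primeCompl.map (algebraMap A' B') : Submonoid B') : Set B') := by
      rw [Set.disjoint_left]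
      intro x hxI hxM
      obtain ⟨g, hg, rfl⟩ := Submonoid.mem_map.mp hxM
      exact hcon g (Ideal.mem_primeCompl_iff.mp hg) hxI
    obtain ⟨Q, hQprime, hIQ, hQdisj⟩ := Ideal.exists_le_prime_disjoint _ _ hdisj
    haveI := hQprime
    refine hno Q (le_sup_left.trans hIQ) ⟨?_⟩
    ext a
    constructor
    · intro ha
      exact hIQ (Ideal.mem_sup_right (Ideal.mem_map_of_mem _ ha))
    · intro ha
      by_contra hat
      exact Set.disjoint_left.mp hQdisj ha
        (Submonoid.mem_map.mpr ⟨a, Ideal.mem_primeCompl_iff.mpr hat, rfl⟩)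
  obtain ⟨g, hgt, hgI⟩ := hg
  -- a closed point of the fibre in the closure of `t` outside the hypersurface `g = 0`
  obtain ⟨hsprime, hsmem⟩ := Groth.Agent.Helper8.GSF.fiberIdeal_isPrime_and_mem_iff p t
  have hgbar : ((1 : p.ResidueField) ⊗ₜ[A] g : p.Fiber A') ∉ FlatCA.fiberIdeal p t :=
    fun h => hgt ((hsmem g).mp h)
  have hjac : (FlatCA.fiberIdeal p t).jacobson = FlatCA.fiberIdeal p t :=
    IsJacobsonRing.out hJ hsprime.isRadical
  rw [← hjac, Ideal.jacobson, Ideal.mem_sInf] at hgbar
  push Not at hgbar
  obtain ⟨n, ⟨hn_le, hn_max⟩, hgn⟩ := hgbar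
  haveI hnprime : n.IsPrime := hn_max.isPrime
  obtain ⟨t₁, ht₁⟩ : ∃ t₁ : Ideal A', t₁ = n.comap (Algebra.TensorProduct.includeRight
      (R := A) (A := p.ResidueField) (B := A')).toRingHom := ⟨_, rfl⟩
  haveI ht₁prime : t₁.IsPrime := by
    rw [ht₁]
    infer_instance
  haveI ht₁over : t₁.LiesOver p := by
    rw [ht₁]
    exact comap_fibre_liesOver p n
  have ht₁mem : ∀ a : A', a ∈ t₁ ↔ ((1 : p.ResidueField) ⊗ₜ[A] a : p.Fiber A') ∈ n := fun a => by
    rw [ht₁]
    rfl
  have htt₁ : t ≤ t₁ := fun a ha => (ht₁mem a).mpr (hn_le ((hsmem a).mpr ha))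
  have hgt₁ : g ∉ t₁ := fun h => hgn ((ht₁mem g).mp h)
  have hfib : n = FlatCA.fiberIdeal p t₁ :=
    Groth.Agent.Helper8.UnivCpl.fiberIdeal_eq_of_forall p t₁ n (fun a => (ht₁mem a).symm)
  refine ⟨t₁, ht₁prime, by rw [← hfib]; exact hn_max, hpush, hbc, hle.trans htt₁, ht₁over,
    hPover, hass, ?_⟩
  intro Q _ hPQ hQover
  apply hgt₁
  rw [hQover.over]
  have hI : P ⊔ t.map (algebraMap A' B') ≤ Q := by
    refine sup_le hPQ (Ideal.map_le_iff_le_comap.mpr (fun a ha => ?_))
    have h1 : a ∈ Q.under A' := by
      rw [← hQover.over]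
      exact htt₁ ha
    exact h1
  exact hI hgI

end ClosedPt

section Main

/-- the stage form of the descent to a closed point of the fibre -/
theorem S1245_core {A B : Type u} [CommRing A] [CommRing B] [Algebra A B]
    (N : Type u) [AddCommGroup N] [Module B N] (p : Ideal A) [p.IsPrime]
    (A' B' N' : Type u) [CommRing A'] [CommRing B'] [Algebra A A'] [Algebra B B']
    [Algebra A' B'] [Algebra A B'] [IsScalarTower A B B'] [IsScalarTower A A' B']
    [AddCommGroup N'] [Module B' N'] [Module B N'] [IsScalarTower B B' N'] [Module A' N']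
    [IsScalarTower A' B' N'] (f : N →ₗ[B] N') (t' t : Ideal A') [t'.IsPrime] [t.IsPrime]
    (P : Ideal B') [P.IsPrime] (himp : FlatCA.IsImpurity A B N p A' B' N' f t' t P) :
    ∃ l : List A', ∀ (G : Type u) [CommRing G] [Algebra A G] [Algebra G A']
      [IsScalarTower A G A'] [IsJacobsonRing (p.Fiber G)] [Algebra.FinitePresentation A G],
      (∀ a ∈ l, a ∈ Set.range (algebraMap G A')) →
      FlatCA.HasImpurity A B N p (fun A'' _ _ t'' =>
        Algebra.FinitePresentation A A'' ∧ (FlatCA.fiberIdeal p t'').IsMaximal) := by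
  obtain ⟨l, hl⟩ := desc_canon N A' B' N' f p t' t P himp
  refine ⟨l, ?_⟩
  intro G _ _ _ _ _ _ hrange
  have h1 := hl G hrange
  have h2 := h1 (t'.comap (algebraMap G A')) (t.comap (algebraMap G A')) rfl rfl
  obtain ⟨P₀, hP₀, himp₀⟩ := h2
  haveI := hP₀
  have h3 := closedPt N G (B ⊗[A] G) ((B ⊗[A] G) ⊗[B] N)
    (TensorProduct.mk B (B ⊗[A] G) N 1) p _ _ P₀ himp₀
  obtain ⟨t₁, ht₁prime, hmax, himp₁⟩ := h3
  exact ⟨G, B ⊗[A] G, (B ⊗[A] G) ⊗[B] N, inferInstance, inferInstance, inferInstance,
    inferInstance, inferInstance, inferInstance, inferInstance, inferInstance, inferInstance,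
    inferInstance, inferInstance, inferInstance, inferInstance, inferInstance,
    TensorProduct.mk B (B ⊗[A] G) N 1, t'.comap (algebraMap G A'), t₁, inferInstance, ht₁prime,
    P₀, hP₀, himp₁, inferInstance, hmax⟩

/-- **Impurities can be based at closed points of the fibre of a finitely presented base.** -/
theorem S1245_main {A B : Type u} [CommRing A] [CommRing B] [Algebra A B]
    (N : Type u) [AddCommGroup N] [Module B N] (p : Ideal A) [p.IsPrime]
    (h : FlatCA.HasImpurity A B N p (fun _ _ _ _ => True)) :
    FlatCA.HasImpurity A B N p (fun A' _ _ t =>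
      Algebra.FinitePresentation A A' ∧ (FlatCA.fiberIdeal p t).IsMaximal) := by
  obtain ⟨A', B', N', _, _, _, _, _, _, _, _, _, _, _, _, _, _, f, t', t, _, _, P, _, himp, -⟩ := h
  obtain ⟨l, hl⟩ := S1245_core N p A' B' N' f t' t P himp
  obtain ⟨φ, hφ⟩ : ∃ φ : MvPolynomial (Fin l.length) A →ₐ[A] A',
      ∀ i, φ (MvPolynomial.X i) = l.get i :=
    ⟨MvPolynomial.aeval (fun i => l.get i), fun i => MvPolynomial.aeval_X _ i⟩
  letI : Algebra (MvPolynomial (Fin l.length) A) A' := φ.toRingHom.toAlgebra
  haveI : IsScalarTower A (MvPolynomial (Fin l.length) A) A' :=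
    IsScalarTower.of_algebraMap_eq (fun a => (φ.commutes a).symm)
  have hrange : ∀ a ∈ l, a ∈ Set.range (algebraMap (MvPolynomial (Fin l.length) A) A') := by
    intro a ha
    obtain ⟨i, rfl⟩ := List.mem_iff_get.mp ha
    exact ⟨MvPolynomial.X i, hφ i⟩
  haveI : IsJacobsonRing (p.Fiber (MvPolynomial (Fin l.length) A)) :=
    isJacobsonRing_of_finiteType (A := p.ResidueField)
  exact hl (MvPolynomial (Fin l.length) A) hrange

end Main

end Groth.Agent.Helper7.ImpDesc
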