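import Mathlib
import Groth.Prelude
import Groth.Agent.Lib.Helper7.ImpDesc.Up
import Groth.Agent.Lib.Helper7.FlatACP.FlatExt

/-!
# helper7: purity along a fibre descends along a base change which is flat at a point

An impurity of `N` above `p` with base change ring `A₁` is transferred to an impurity of the base
change `N'` of `N` to `A'` above a prime `p'` of `A'` over `p` at which `A'` is flat over `A`, with
base change ring `A₁ ⊗ A'`; elementary etale ring maps are preserved.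
-/

set_option linter.style.haveILetI false
set_option linter.unusedVariables false
set_option linter.unusedSectionVars false
set_option autoImplicit false
set_option backward.isDefEq.respectTransparency.types false
set_option synthInstance.maxHeartbeats 400000
set_option maxHeartbeats 1600000

universe u

open TensorProduct

namespace Groth.Agent.Helper7.ImpDesc

attribute [local instance] Algebra.TensorProduct.rightAlgebra

section Primes

variable {A : Type u} [CommRing A] (A₁ A' : Type u) [CommRing A₁] [CommRing A'] [Algebra A A₁]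
  [Algebra A A']

/-- primes of `A₁ ⊗ A'` over a chain `t' ≤ t` of `A₁` and over a prime `p'` of `A'` at which `A'`
is flat over `A` -/
theorem exists_primes (p : Ideal A) [p.IsPrime] (p' : Ideal A') [p'.IsPrime] [p'.LiesOver p]
    [Module.Flat A (Localization.AtPrime p')] (t' t : Ideal A₁) [t'.IsPrime] [t.IsPrime]
    [t.LiesOver p] (hle : t' ≤ t) :
    ∃ (t₂' t₂ : Ideal (A₁ ⊗[A] A')), t₂'.IsPrime ∧ t₂.IsPrime ∧ t₂' ≤ t₂ ∧ t₂.LiesOver p' ∧
      t₂'.comap (algebraMap A₁ (A₁ ⊗[A] A')) = t' ∧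
      t₂.comap (algebraMap A₁ (A₁ ⊗[A] A')) = t := by
  have hm : (IsLocalRing.maximalIdeal (Localization.AtPrime p')).comap
      (algebraMap A' (Localization.AtPrime p')) = p' :=
    IsLocalization.AtPrime.under_maximalIdeal (Localization.AtPrime p') p'
  have hm' : ∀ y : A', algebraMap A' (Localization.AtPrime p') y ∈
      IsLocalRing.maximalIdeal (Localization.AtPrime p') ↔ y ∈ p' := fun y => by
    rw [← Ideal.mem_comap, hm]
  have hcomp : t.comap (algebraMap A A₁) = (IsLocalRing.maximalIdeal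
      (Localization.AtPrime p')).comap (algebraMap A (Localization.AtPrime p')) := by
    have h1 : t.comap (algebraMap A A₁) = p := (Ideal.over_def t p).symm
    have h2 : p'.comap (algebraMap A A') = p := (Ideal.over_def p' p).symm
    rw [IsScalarTower.algebraMap_eq A A' (Localization.AtPrime p'), ← Ideal.comap_comap, hm,
      h1, h2]
  obtain ⟨W, hWprime, hWl, hWr⟩ := FlatACP.exists_prime_tensor A A₁ (Localization.AtPrime p') t
    (IsLocalRing.maximalIdeal _) hcomp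
  haveI := hWprime
  have hinc : ∀ x : A₁, algebraMap A₁ (A₁ ⊗[A] (Localization.AtPrime p')) x =
      (Algebra.TensorProduct.includeLeft : A₁ →ₐ[A] A₁ ⊗[A] (Localization.AtPrime p')).toRingHom x :=
    fun x => rfl
  have hWl' : ∀ x : A₁, algebraMap A₁ (A₁ ⊗[A] (Localization.AtPrime p')) x ∈ W ↔ x ∈ t := by
    intro x
    rw [hinc, ← Ideal.mem_comap, hWl]
  have hWr' : ∀ z : Localization.AtPrime p', ((1 : A₁) ⊗ₜ[A] z : A₁ ⊗[A] _) ∈ W ↔
      z ∈ IsLocalRing.maximalIdeal (Localization.AtPrime p') := by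
    intro z
    rw [← hWr]
    rfl
  haveI hWover : W.LiesOver t := ⟨Ideal.ext fun x => (hWl' x).symm⟩
  obtain ⟨W', hW'le, hW'prime, hW'over⟩ :=
    Ideal.exists_ideal_le_liesOver_of_le (p := t') (q := t) W hle
  haveI := hW'prime
  have hW'l : ∀ x : A₁, algebraMap A₁ (A₁ ⊗[A] (Localization.AtPrime p')) x ∈ W' ↔ x ∈ t' := by
    intro x
    conv_rhs => rw [hW'over.over]
    rfl
  obtain ⟨θ, hθ1, hθ2⟩ : ∃ θ : A₁ ⊗[A] A' →+* A₁ ⊗[A] (Localization.AtPrime p'),
      (∀ x : A₁, θ (algebraMap A₁ (A₁ ⊗[A] A') x) =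
        algebraMap A₁ (A₁ ⊗[A] (Localization.AtPrime p')) x) ∧
      (∀ y : A', θ (algebraMap A' (A₁ ⊗[A] A') y) =
        (1 : A₁) ⊗ₜ[A] (algebraMap A' (Localization.AtPrime p') y)) := by
    refine ⟨(Algebra.TensorProduct.map (AlgHom.id A₁ A₁)
      (IsScalarTower.toAlgHom A A' (Localization.AtPrime p'))).toRingHom, ?_, ?_⟩
    · intro x
      exact (Algebra.TensorProduct.map (AlgHom.id A₁ A₁)
        (IsScalarTower.toAlgHom A A' (Localization.AtPrime p'))).commutes x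
    · intro y
      change (Algebra.TensorProduct.map (AlgHom.id A₁ A₁)
        (IsScalarTower.toAlgHom A A' (Localization.AtPrime p'))) ((1 : A₁) ⊗ₜ[A] y) = _
      simp
  refine ⟨W'.comap θ, W.comap θ, inferInstance, inferInstance, Ideal.comap_mono hW'le, ⟨?_⟩,
    ?_, ?_⟩
  · ext y
    rw [Ideal.under_def, Ideal.mem_comap, Ideal.mem_comap, hθ2, hWr', hm']
  · ext x
    rw [Ideal.mem_comap, Ideal.mem_comap, hθ1, hW'l]
  · ext x
    rw [Ideal.mem_comap, Ideal.mem_comap, hθ1, hWl']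

end Primes

section Residue

variable {A : Type u} [CommRing A] (A₁ A' : Type u) [CommRing A₁] [CommRing A'] [Algebra A A₁]
  [Algebra A A']

theorem exists_sub_mem_of_bijective (p : Ideal A) [p.IsPrime] (t : Ideal A₁) [t.IsPrime]
    [h : t.LiesOver p]
    (hbij : Function.Bijective (Ideal.ResidueField.mapₐ p t (Algebra.ofId A A₁) h.over))
    (a₁ : A₁) :
    ∃ s : A, s ∉ p ∧ ∃ a : A, algebraMap A A₁ s * a₁ - algebraMap A A₁ a ∈ t := by
  obtain ⟨c, hc⟩ := hbij.2 (algebraMap A₁ t.ResidueField a₁)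
  obtain ⟨x, s, hs, rfl⟩ := IsFractionRing.div_surjective (A := A ⧸ p) c
  obtain ⟨x, rfl⟩ := Ideal.Quotient.mk_surjective x
  obtain ⟨s, rfl⟩ := Ideal.Quotient.mk_surjective s
  have hsp : s ∉ p := by
    intro h'
    have : Ideal.Quotient.mk p s = 0 := Ideal.Quotient.eq_zero_iff_mem.mpr h'
    rw [this] at hs
    exact zero_notMem_nonZeroDivisors hs
  refine ⟨s, hsp, x, ?_⟩
  rw [Ideal.algebraMap_quotient_residueField_mk, Ideal.algebraMap_quotient_residueField_mk,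
    map_div₀, AlgHom.commutes, AlgHom.commutes] at hc
  have hs0 : algebraMap A t.ResidueField s ≠ 0 := by
    intro h0
    rw [IsScalarTower.algebraMap_apply A A₁ t.ResidueField,
      Ideal.algebraMap_residueField_eq_zero] at h0
    apply hsp
    rw [h.over]
    exact h0
  rw [← Ideal.algebraMap_residueField_eq_zero, map_sub, map_mul, sub_eq_zero,
    ← IsScalarTower.algebraMap_apply A A₁ t.ResidueField,
    ← IsScalarTower.algebraMap_apply A A₁ t.ResidueField, ← hc]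
  field_simp

/-- the residue field extension stays trivial after base change -/
theorem residue_bijective_baseChange (p : Ideal A) [p.IsPrime] (t : Ideal A₁) [t.IsPrime]
    [h : t.LiesOver p]
    (hbij : Function.Bijective (Ideal.ResidueField.mapₐ p t (Algebra.ofId A A₁) h.over))
    (p' : Ideal A') [p'.IsPrime] [p'.LiesOver p]
    (t₂ : Ideal (A₁ ⊗[A] A')) [t₂.IsPrime] [h₂ : t₂.LiesOver p']
    (ht₂ : t₂.comap (algebraMap A₁ (A₁ ⊗[A] A')) = t) :
    Function.Bijective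
      (Ideal.ResidueField.mapₐ p' t₂ (Algebra.ofId A' (A₁ ⊗[A] A')) h₂.over) := by
  refine ⟨(Ideal.ResidueField.mapₐ p' t₂ (Algebra.ofId A' (A₁ ⊗[A] A'))
    h₂.over).toRingHom.injective, ?_⟩
  obtain ⟨ι, hι⟩ : ∃ ι : p'.ResidueField →ₐ[A'] t₂.ResidueField,
      ι = Ideal.ResidueField.mapₐ p' t₂ (Algebra.ofId A' (A₁ ⊗[A] A')) h₂.over := ⟨_, rfl⟩
  rw [← hι]
  have hA' : ∀ y : A', algebraMap (A₁ ⊗[A] A') t₂.ResidueField (algebraMap A' (A₁ ⊗[A] A') y) ∈
      ι.toRingHom.fieldRange := by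
    intro y
    refine RingHom.mem_fieldRange.mpr ⟨algebraMap A' p'.ResidueField y, ?_⟩
    rw [← IsScalarTower.algebraMap_apply A' (A₁ ⊗[A] A') t₂.ResidueField]
    exact ι.commutes y
  have hA : ∀ a : A, algebraMap A t₂.ResidueField a ∈ ι.toRingHom.fieldRange := by
    intro a
    have := hA' (algebraMap A A' a)
    rwa [← IsScalarTower.algebraMap_apply A A' (A₁ ⊗[A] A'),
      ← IsScalarTower.algebraMap_apply A (A₁ ⊗[A] A') t₂.ResidueField] at this
  have hA₁ : ∀ a₁ : A₁, algebraMap (A₁ ⊗[A] A') t₂.ResidueField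
      (algebraMap A₁ (A₁ ⊗[A] A') a₁) ∈ ι.toRingHom.fieldRange := by
    intro a₁
    obtain ⟨s, hs, a, hmem⟩ := exists_sub_mem_of_bijective A₁ p t hbij a₁
    have h0 : algebraMap (A₁ ⊗[A] A') t₂.ResidueField (algebraMap A₁ (A₁ ⊗[A] A')
        (algebraMap A A₁ s * a₁ - algebraMap A A₁ a)) = 0 := by
      rw [Ideal.algebraMap_residueField_eq_zero, ← Ideal.mem_comap, ht₂]
      exact hmem
    rw [map_sub, map_mul, map_sub, map_mul, sub_eq_zero,
      ← IsScalarTower.algebraMap_apply A A₁ (A₁ ⊗[A] A'),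
      ← IsScalarTower.algebraMap_apply A A₁ (A₁ ⊗[A] A'),
      ← IsScalarTower.algebraMap_apply A (A₁ ⊗[A] A') t₂.ResidueField,
      ← IsScalarTower.algebraMap_apply A (A₁ ⊗[A] A') t₂.ResidueField] at h0
    have hs0 : algebraMap A t₂.ResidueField s ≠ 0 := by
      intro h0'
      rw [IsScalarTower.algebraMap_apply A (A₁ ⊗[A] A') t₂.ResidueField,
        Ideal.algebraMap_residueField_eq_zero,
        IsScalarTower.algebraMap_apply A A₁ (A₁ ⊗[A] A'), ← Ideal.mem_comap, ht₂] at h0'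
      apply hs
      rw [h.over]
      exact h0'
    have e : algebraMap (A₁ ⊗[A] A') t₂.ResidueField (algebraMap A₁ (A₁ ⊗[A] A') a₁) =
        algebraMap A t₂.ResidueField a / algebraMap A t₂.ResidueField s := by
      rw [eq_div_iff hs0, mul_comm]
      exact h0
    rw [e]
    exact div_mem (hA a) (hA s)
  have hall : ∀ x : A₁ ⊗[A] A', algebraMap (A₁ ⊗[A] A') t₂.ResidueField x ∈
      ι.toRingHom.fieldRange := by
    intro x
    induction x using TensorProduct.induction_on with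
    | zero =>
      rw [map_zero]
      exact zero_mem _
    | tmul a₁ y =>
      have e1 : algebraMap A₁ (A₁ ⊗[A] A') a₁ = a₁ ⊗ₜ[A] (1 : A') := rfl
      have e2 : algebraMap A' (A₁ ⊗[A] A') y = (1 : A₁) ⊗ₜ[A] y := rfl
      have e3 : (a₁ ⊗ₜ[A] y : A₁ ⊗[A] A') =
          algebraMap A₁ (A₁ ⊗[A] A') a₁ * algebraMap A' (A₁ ⊗[A] A') y := by
        rw [e1, e2, Algebra.TensorProduct.tmul_mul_tmul, mul_one, one_mul]
      rw [e3, map_mul]
      exact mul_mem (hA₁ a₁) (hA' y)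
    | add x y hx hy =>
      rw [map_add]
      exact add_mem hx hy
  intro z
  obtain ⟨x, s, hs, rfl⟩ := IsFractionRing.div_surjective (A := (A₁ ⊗[A] A') ⧸ t₂) z
  obtain ⟨x, rfl⟩ := Ideal.Quotient.mk_surjective x
  obtain ⟨s, rfl⟩ := Ideal.Quotient.mk_surjective s
  rw [Ideal.algebraMap_quotient_residueField_mk, Ideal.algebraMap_quotient_residueField_mk]
  obtain ⟨c, hc⟩ := RingHom.mem_fieldRange.mp (div_mem (hall x) (hall s))
  exact ⟨c, hc⟩

theorem etale_right [Algebra.Etale A A₁] : Algebra.Etale A' (A₁ ⊗[A] A') := by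
  let e : A' ⊗[A] A₁ ≃ₐ[A'] A₁ ⊗[A] A' :=
    AlgEquiv.ofRingEquiv (f := (Algebra.TensorProduct.comm A A' A₁).toRingEquiv) (fun r => by
      change (Algebra.TensorProduct.comm A A' A₁) (algebraMap A' (A' ⊗[A] A₁) r) =
        (1 : A₁) ⊗ₜ[A] r
      rw [Algebra.TensorProduct.algebraMap_apply, Algebra.TensorProduct.comm_tmul]
      rfl)
  exact Algebra.Etale.of_equiv e

end Residue

section Transfer

variable {A B : Type u} [CommRing A] [CommRing B] [Algebra A B] [Algebra.FiniteType A B]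
  (N : Type u) [AddCommGroup N] [Module B N] (p : Ideal A) [p.IsPrime]
  (A' B' N' : Type u) [CommRing A'] [CommRing B'] [Algebra A A'] [Algebra B B'] [Algebra A' B']
  [Algebra A B'] [IsScalarTower A B B'] [IsScalarTower A A' B'] [Algebra.IsPushout A B A' B']
  [AddCommGroup N'] [Module B' N'] [Module B N'] [IsScalarTower B B' N'] (f : N →ₗ[B] N')
  (hf : IsBaseChange B' f) (p' : Ideal A') [p'.IsPrime] [p'.LiesOver p]

include hf in
/-- an impurity of `N` above `p` over `A₁` gives an impurity of `N'` above `p'` over `A₁ ⊗ A'`,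
given suitable primes of `A₁ ⊗ A'` -/
theorem transfer (A₁ B₁ N₁ : Type u) [CommRing A₁] [CommRing B₁] [Algebra A A₁] [Algebra B B₁]
    [Algebra A₁ B₁] [Algebra A B₁] [IsScalarTower A B B₁] [IsScalarTower A A₁ B₁]
    [AddCommGroup N₁] [Module B₁ N₁] [Module B N₁] [IsScalarTower B B₁ N₁] [Module A₁ N₁]
    [IsScalarTower A₁ B₁ N₁] (f₁ : N →ₗ[B] N₁) (t' t : Ideal A₁) [t'.IsPrime] [t.IsPrime]
    (P : Ideal B₁) [P.IsPrime] (himp : FlatCA.IsImpurity A B N p A₁ B₁ N₁ f₁ t' t P)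
    (t₂' t₂ : Ideal (A₁ ⊗[A] A')) [t₂'.IsPrime] [t₂.IsPrime] (hle : t₂' ≤ t₂) [t₂.LiesOver p']
    (ht₂' : t₂'.comap (algebraMap A₁ (A₁ ⊗[A] A')) = t')
    (ht₂ : t₂.comap (algebraMap A₁ (A₁ ⊗[A] A')) = t) :
    ∃ (P₂ : Ideal (B' ⊗[A'] (A₁ ⊗[A] A'))) (_ : P₂.IsPrime),
      FlatCA.IsImpurity A' B' N' p' (A₁ ⊗[A] A') (B' ⊗[A'] (A₁ ⊗[A] A'))
        ((B' ⊗[A'] (A₁ ⊗[A] A')) ⊗[B'] N')
        (TensorProduct.mk B' (B' ⊗[A'] (A₁ ⊗[A] A')) N' 1) t₂' t₂ P₂ := by
  obtain ⟨l, hl⟩ := desc_canon N A₁ B₁ N₁ f₁ p t' t P himp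
  obtain ⟨P₀, hP₀, himp₀⟩ := hl A₁ (fun a _ => ⟨a, rfl⟩)
    (t₂'.comap (algebraMap A₁ (A₁ ⊗[A] A'))) (t₂.comap (algebraMap A₁ (A₁ ⊗[A] A')))
    (by rw [ht₂']; exact Ideal.ext fun x => Iff.rfl)
    (by rw [ht₂]; exact Ideal.ext fun x => Iff.rfl)
  haveI := hP₀
  haveI : SMulCommClass A' B B' := ⟨fun a b x => by
    rw [Algebra.smul_def, Algebra.smul_def, Algebra.smul_def, Algebra.smul_def, mul_left_comm]⟩
  haveI : IsScalarTower B B' (B' ⊗[A'] (A₁ ⊗[A] A')) := inferInstance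
  haveI : IsScalarTower A (A₁ ⊗[A] A') (B' ⊗[A'] (A₁ ⊗[A] A')) :=
    IsScalarTower.of_algebraMap_eq (fun a => by
      rw [IsScalarTower.algebraMap_apply A A' (B' ⊗[A'] (A₁ ⊗[A] A')),
        IsScalarTower.algebraMap_apply A A' (A₁ ⊗[A] A'),
        ← IsScalarTower.algebraMap_apply A' (A₁ ⊗[A] A') (B' ⊗[A'] (A₁ ⊗[A] A'))])
  haveI : IsScalarTower A B (B' ⊗[A'] (A₁ ⊗[A] A')) := inferInstance
  haveI hpush : Algebra.IsPushout A B (A₁ ⊗[A] A') (B' ⊗[A'] (A₁ ⊗[A] A')) := by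
    haveI : Algebra.IsPushout A A' B B' := Algebra.IsPushout.symm inferInstance
    have h1' : Algebra.IsPushout A' (A₁ ⊗[A] A') B' (B' ⊗[A'] (A₁ ⊗[A] A')) :=
      Algebra.IsPushout.symm inferInstance
    have := (Algebra.IsPushout.comp_iff A A' B B' (T := A₁ ⊗[A] A')
      (T' := B' ⊗[A'] (A₁ ⊗[A] A'))).mpr h1'
    exact Algebra.IsPushout.symm this
  have hbc₂ : IsBaseChange (B' ⊗[A'] (A₁ ⊗[A] A'))
      (((TensorProduct.mk B' (B' ⊗[A'] (A₁ ⊗[A] A')) N' 1).restrictScalars B).comp f) :=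
    hf.comp (TensorProduct.isBaseChange B' N' (B' ⊗[A'] (A₁ ⊗[A] A')))
  have hup := up_isImpurity N (A₁ ⊗[A] A') (B' ⊗[A'] (A₁ ⊗[A] A'))
    ((B' ⊗[A'] (A₁ ⊗[A] A')) ⊗[B'] N')
    (((TensorProduct.mk B' (B' ⊗[A'] (A₁ ⊗[A] A')) N' 1).restrictScalars B).comp f) A₁ p t₂' t₂
  have hup2 := hup hbc₂ hle P₀
  have e0 : FlatCA.IsImpurity A B N p A₁ (B ⊗[A] A₁) ((B ⊗[A] A₁) ⊗[B] N)
      (TensorProduct.mk B (B ⊗[A] A₁) N 1) (t₂'.comap (algebraMap A₁ (A₁ ⊗[A] A')))
      (t₂.comap (algebraMap A₁ (A₁ ⊗[A] A'))) P₀ := himp₀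
  obtain ⟨P₂, hP₂, himp₂⟩ := hup2 e0
  obtain ⟨-, -, -, -, h5, h6, h7⟩ := himp₂
  exact ⟨P₂, hP₂, inferInstance, TensorProduct.isBaseChange B' N' _, hle, inferInstance, h5, h6,
    h7⟩

include hf in
theorem S1217_main [Module.Flat A (Localization.AtPrime p')] :
    (FlatCA.IsPureAlong A' B' N' p' → FlatCA.IsPureAlong A B N p) ∧
    (FlatCA.IsUnivPureAlong A' B' N' p' → FlatCA.IsUnivPureAlong A B N p) := by
  constructor
  · intro hpure A₁ B₁ N₁ _ _ _ _ _ _ _ _ _ _ _ _ _ _ f₁ t' t _ _ P _ het himp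
    obtain ⟨hEt, hover, hbij⟩ := het
    haveI := hEt
    haveI := hover
    have hle := himp.2.2.1
    obtain ⟨t₂', t₂, h1, h2, hle₂, hov, e', e⟩ := exists_primes A₁ A' p p' t' t hle
    haveI := h1
    haveI := h2
    haveI := hov
    obtain ⟨P₂, hP₂, himp₂⟩ := transfer N p A' B' N' f hf p' A₁ B₁ N₁ f₁ t' t P himp t₂' t₂
      hle₂ e' e
    haveI := hP₂
    haveI := etale_right (A := A) A₁ A'
    have key := hpure (A₁ ⊗[A] A') (B' ⊗[A'] (A₁ ⊗[A] A'))
      ((B' ⊗[A'] (A₁ ⊗[A] A')) ⊗[B'] N')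
    exact key _ t₂' t₂ P₂
      ⟨inferInstance, hov, residue_bijective_baseChange A₁ A' p t hbij p' t₂ e⟩ himp₂
  · intro hpure A₁ B₁ N₁ _ _ _ _ _ _ _ _ _ _ _ _ _ _ f₁ t' t _ _ P _ himp
    have hle := himp.2.2.1
    haveI := himp.2.2.2.1
    obtain ⟨t₂', t₂, h1, h2, hle₂, hov, e', e⟩ := exists_primes A₁ A' p p' t' t hle
    haveI := h1
    haveI := h2
    haveI := hov
    obtain ⟨P₂, hP₂, himp₂⟩ := transfer N p A' B' N' f hf p' A₁ B₁ N₁ f₁ t' t P himp t₂' t₂
      hle₂ e' e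
    haveI := hP₂
    have key := hpure (A₁ ⊗[A] A') (B' ⊗[A'] (A₁ ⊗[A] A'))
      ((B' ⊗[A'] (A₁ ⊗[A] A')) ⊗[B'] N')
    exact key _ t₂' t₂ P₂ himp₂

end Transfer

end Groth.Agent.Helper7.ImpDesc
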