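import Mathlib
import Groth.Prelude
import Groth.Agent.Lib.Helper7.ImpDesc.Up
import Groth.Agent.Lib.Helper7.ImpDesc.FlatBC
import Groth.Agent.Lib.Helper8.PureBC1

/-!
# helper7: pushing an associated prime of a fibre module down along a map of base rings

For `A`-algebras `G → A'`, a prime of the big pushout `B'` whose extension to the fibre ring over a
prime `t'` of `A'` is an associated prime of the fibre module contracts to a prime of the stage
pushout `B ⊗ G` with the same property over the contraction of `t'`: the fibre module upstairs is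
the extension of scalars of the fibre module at the stage along the extension of residue fields,
and associated primes are detected on the coordinates with respect to a basis of that extension.
-/

set_option linter.style.haveILetI false
set_option linter.unusedVariables false
set_option linter.unusedSectionVars false
set_option autoImplicit false
set_option backward.isDefEq.respectTransparency.types false
set_option synthInstance.maxHeartbeats 400000
set_option maxHeartbeats 1600000

universe u

open TensorProduct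

namespace Groth.Agent.Helper7.ImpDesc

attribute [local instance] Algebra.TensorProduct.rightAlgebra

section FieldDown

theorem exists_pow_smul_eq_zero_of_forall {S₀ M₀ ι : Type u} [CommRing S₀] [AddCommGroup M₀]
    [Module S₀ M₀] (b : S₀) (ζ : ι → M₀) (s : Finset ι)
    (h : ∀ i ∈ s, ∃ n : ℕ, b ^ n • ζ i = 0) : ∃ n : ℕ, ∀ i ∈ s, b ^ n • ζ i = 0 := by
  classical
  induction s using Finset.induction_on with
  | empty => exact ⟨0, fun i hi => absurd hi (Finset.notMem_empty i)⟩
  | insert a s ha ih =>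
    obtain ⟨n₁, h₁⟩ := h a (Finset.mem_insert_self a s)
    obtain ⟨n₂, h₂⟩ := ih (fun i hi => h i (Finset.mem_insert_of_mem hi))
    refine ⟨n₁ + n₂, fun i hi => ?_⟩
    rcases Finset.mem_insert.mp hi with rfl | hi
    · rw [pow_add, mul_comm, mul_smul, h₁, smul_zero]
    · rw [pow_add, mul_smul, h₂ i hi, smul_zero]

/-- Associated primes (in the radical sense, elementwise) descend along an extension of scalars
from a field `k` to a field `K`. -/
theorem field_down {k K : Type u} [Field k] [Field K] [Algebra k K]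
    {S₀ S : Type u} [CommRing S₀] [CommRing S] (φ : S₀ →+* S)
    {M₀ M : Type u} [AddCommGroup M₀] [AddCommGroup M] [Module S₀ M₀] [Module S M]
    [Module k M₀] [Module K M] [Module k M] [IsScalarTower k K M]
    (hc₀ : ∀ (b : S₀) (c : k) (m : M₀), b • (c • m) = c • (b • m))
    (hc : ∀ (x : S) (c : K) (m : M), x • (c • m) = c • (x • m))
    (β : M₀ →ₗ[k] M) (hβ : IsBaseChange K β)
    (hsemi : ∀ (b : S₀) (m : M₀), β (b • m) = φ b • β m)
    (P₀ : Ideal S₀) [hP₀ : P₀.IsPrime] (z : M)
    (hz : ∀ b : S₀, b ∈ P₀ ↔ ∃ n : ℕ, (φ b) ^ n • z = 0) :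
    ∃ m₀ : M₀, ∀ b : S₀, b ∈ P₀ ↔ ∃ n : ℕ, b ^ n • m₀ = 0 := by
  classical
  obtain ⟨E, hE⟩ : ∃ E : K ⊗[k] M₀ ≃ₗ[k] (Module.Basis.ofVectorSpaceIndex k K →₀ M₀),
      ∀ (c : K) (m : M₀) i, E (c ⊗ₜ m) i = (Module.Basis.ofVectorSpace k K).repr c i • m :=
    ⟨TensorProduct.equivFinsuppOfBasisLeft (Module.Basis.ofVectorSpace k K), fun c m i =>
      TensorProduct.equivFinsuppOfBasisLeft_apply_tmul_apply _ c m i⟩
  have key : ∀ (b : S₀) (w : K ⊗[k] M₀), ∃ w' : K ⊗[k] M₀,
      φ b • hβ.equiv w = hβ.equiv w' ∧ ∀ i, E w' i = b • E w i := by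
    intro b w
    induction w using TensorProduct.induction_on with
    | zero =>
      exact ⟨0, by rw [map_zero, smul_zero], fun i => by
        rw [map_zero, Finsupp.zero_apply, smul_zero]⟩
    | tmul c m =>
      refine ⟨c ⊗ₜ (b • m), ?_, fun i => ?_⟩
      · rw [IsBaseChange.equiv_tmul, IsBaseChange.equiv_tmul, hc, hsemi]
      · rw [hE, hE, hc₀]
    | add w₁ w₂ h₁ h₂ =>
      obtain ⟨w₁', e₁, f₁⟩ := h₁
      obtain ⟨w₂', e₂, f₂⟩ := h₂
      refine ⟨w₁' + w₂', by rw [map_add, smul_add, e₁, e₂, map_add], fun i => ?_⟩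
      rw [map_add, map_add, Finsupp.add_apply, Finsupp.add_apply, f₁, f₂, smul_add]
  obtain ⟨ζ, hζ⟩ : ∃ ζ : Module.Basis.ofVectorSpaceIndex k K →₀ M₀,
      ζ = E (hβ.equiv.symm z) := ⟨_, rfl⟩
  have hpow : ∀ (b : S₀) (n : ℕ), (φ b) ^ n • z = 0 ↔ ∀ i, b ^ n • ζ i = 0 := by
    intro b n
    obtain ⟨w', e, f⟩ := key (b ^ n) (hβ.equiv.symm z)
    rw [LinearEquiv.apply_symm_apply, map_pow] at e
    rw [e]
    have f' : ∀ i, E w' i = b ^ n • ζ i := fun i => by rw [hζ]; exact f i
    constructor
    · intro h i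
      have hw : w' = 0 := (LinearEquiv.map_eq_zero_iff _).mp h
      rw [← f' i, hw, map_zero, Finsupp.zero_apply]
    · intro h
      have hE0 : E w' = 0 := Finsupp.ext fun i => by rw [f' i, h i, Finsupp.zero_apply]
      have hw : w' = 0 := (LinearEquiv.map_eq_zero_iff _).mp hE0
      rw [hw, map_zero]
  have hP₀' : ∀ b : S₀, b ∈ P₀ ↔ ∃ n : ℕ, ∀ i ∈ ζ.support, b ^ n • ζ i = 0 := by
    intro b
    rw [hz b]
    refine exists_congr fun n => ?_
    rw [hpow]
    constructor
    · intro h i _
      exact h i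
    · intro h i
      by_cases hi : i ∈ ζ.support
      · exact h i hi
      · rw [Finsupp.notMem_support_iff.mp hi, smul_zero]
  have hle : ∀ i ∈ ζ.support,
      P₀ ≤ (Submodule.colon (⊥ : Submodule S₀ M₀) {ζ i}).radical := by
    intro i hi b hb
    obtain ⟨n, hn⟩ := (hP₀' b).mp hb
    rw [Ideal.mem_radical_iff]
    exact ⟨n, by rw [Submodule.mem_colon_singleton, Submodule.mem_bot]; exact hn i hi⟩
  have hinf : ζ.support.inf
      (fun i => (Submodule.colon (⊥ : Submodule S₀ M₀) {ζ i}).radical) ≤ P₀ := by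
    intro b hb
    rw [Submodule.mem_finsetInf] at hb
    refine (hP₀' b).mpr (exists_pow_smul_eq_zero_of_forall b (fun i => ζ i) ζ.support
      (fun i hi => ?_))
    have h1 := hb i hi
    rw [Ideal.mem_radical_iff] at h1
    obtain ⟨n, hn⟩ := h1
    exact ⟨n, by rwa [Submodule.mem_colon_singleton, Submodule.mem_bot] at hn⟩
  obtain ⟨i, hi, hile⟩ := (Ideal.IsPrime.inf_le' hP₀).mp hinf
  refine ⟨ζ i, fun b => ?_⟩
  have heq : P₀ = (Submodule.colon (⊥ : Submodule S₀ M₀) {ζ i}).radical :=
    le_antisymm (hle i hi) hile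
  rw [heq, Ideal.mem_radical_iff]
  refine exists_congr fun n => ?_
  rw [Submodule.mem_colon_singleton, Submodule.mem_bot]

end FieldDown

section DownGen

variable {G : Type u} [CommRing G] {S X : Type u} [CommRing S] [Algebra G S] [AddCommGroup X]
  [Module S X] [Module G X] [IsScalarTower G S X]
  {A' B' N' : Type u} [CommRing A'] [CommRing B'] [Algebra A' B'] [AddCommGroup N']
  [Module B' N'] [Module A' N'] [IsScalarTower A' B' N'] [Algebra G A']
  {A₀ : Type u} [CommRing A₀] [Algebra A₀ S] [Algebra A₀ B']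

/-- pushing an associated prime of the fibre module down along a base change of modules which is
semilinear over a map of rings -/
theorem ass_down_gen (φ : S →ₐ[A₀] B')
    [Module G N'] [IsScalarTower G A' N'] (ψ : X →ₗ[G] N') (hψ : IsBaseChange A' ψ)
    (hψs : ∀ (c : S) (y : X), ψ (c • y) = φ c • ψ y)
    (t' : Ideal A') [t'.IsPrime] (s' : Ideal G) [s'.IsPrime]
    (hs' : s' = t'.comap (algebraMap G A'))
    (P : Ideal B') [P.IsPrime] [P.LiesOver t'] [(P.comap φ).LiesOver s']
    (hass : FlatCA.fiberIdeal t' P ∈ associatedPrimes (t'.Fiber B') (FlatCA.fiberMod t' B' N')) :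
    FlatCA.fiberIdeal s' (P.comap φ) ∈
      associatedPrimes (s'.Fiber S) (FlatCA.fiberMod s' S X) := by
  obtain ⟨x', hx'⟩ := (mem_ass_iff t' N' P).mp hass
  rw [mem_ass_iff]
  have hα₀ : IsBaseChange s'.ResidueField
      ((TensorProduct.mk S (s'.Fiber S) X 1).restrictScalars G) :=
    isBaseChange_restrict (A := G) (B := S) X s'.ResidueField
      (s'.Fiber S) ((s'.Fiber S) ⊗[S] X)
      (TensorProduct.mk S (s'.Fiber S) X 1)
      (TensorProduct.isBaseChange S X (s'.Fiber S))
  have hα : IsBaseChange t'.ResidueField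
      ((TensorProduct.mk B' (t'.Fiber B') N' 1).restrictScalars A') :=
    isBaseChange_restrict (A := A') (B := B') N' t'.ResidueField (t'.Fiber B')
      ((t'.Fiber B') ⊗[B'] N') (TensorProduct.mk B' (t'.Fiber B') N' 1)
      (TensorProduct.isBaseChange B' N' (t'.Fiber B'))
  -- the residue fields
  letI iK : Algebra s'.ResidueField t'.ResidueField :=
    (Ideal.ResidueField.map s' t' (algebraMap G A') hs').toAlgebra
  haveI : IsScalarTower G s'.ResidueField t'.ResidueField :=
    IsScalarTower.of_algebraMap_eq (fun g => by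
      rw [IsScalarTower.algebraMap_apply G A' t'.ResidueField]
      exact (Ideal.ResidueField.map_algebraMap s' t' (algebraMap G A') hs' g).symm)
  haveI : IsScalarTower s'.ResidueField t'.ResidueField ((t'.Fiber B') ⊗[B'] N') :=
    inferInstance
  haveI : IsScalarTower G s'.ResidueField ((t'.Fiber B') ⊗[B'] N') := inferInstance
  obtain ⟨αψ, hαψ⟩ : ∃ αψ : X →ₗ[G] ((t'.Fiber B') ⊗[B'] N'),
      αψ = (((TensorProduct.mk B' (t'.Fiber B') N' 1).restrictScalars A').restrictScalars G) ∘ₗ
        ψ := ⟨_, rfl⟩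
  have hαψ_apply : ∀ y, αψ y = (1 : t'.Fiber B') ⊗ₜ[B'] ψ y := fun y => by
    rw [hαψ]
    rfl
  have hcomp : IsBaseChange t'.ResidueField αψ := by
    rw [hαψ]
    exact hψ.comp hα
  obtain ⟨β, hβdef⟩ : ∃ β : ((s'.Fiber S) ⊗[S] X)
      →ₗ[s'.ResidueField] ((t'.Fiber B') ⊗[B'] N'), β = hα₀.lift αψ := ⟨_, rfl⟩
  have hβα₀ : ∀ y : X,
      β ((1 : s'.Fiber S) ⊗ₜ[S] y) = (1 : t'.Fiber B') ⊗ₜ[B'] ψ y := fun y => by
    rw [hβdef, ← hαψ_apply]
    exact hα₀.lift_eq αψ y
  have hβ : IsBaseChange t'.ResidueField β := by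
    rw [hβdef]
    exact IsBaseChange.of_comp hα₀ (by rw [hα₀.lift_comp]; exact hcomp)
  have hsemi : ∀ (b : S) (m : (s'.Fiber S) ⊗[S] X), β (b • m) = φ b • β m := by
    intro b m
    refine hα₀.inductionOn m (fun m => β (b • m) = φ b • β m) ?_ ?_ ?_ ?_
    · rw [smul_zero, map_zero, smul_zero]
    · intro y
      change β (b • ((1 : s'.Fiber S) ⊗ₜ[S] y)) = φ b • β ((1 : s'.Fiber S) ⊗ₜ[S] y)
      rw [← TensorProduct.tmul_smul, hβα₀, hβα₀, hψs, TensorProduct.tmul_smul]
    · intro c m ih
      rw [smul_comm b c m, map_smul, ih, map_smul]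
      exact (smul_comm (φ b) c (β m)).symm
    · intro m₁ m₂ h₁ h₂
      rw [smul_add, map_add, h₁, h₂, map_add, smul_add]
  have him : ∀ (c : B') (x : N'), im B' t' N' (c • x) = c • im B' t' N' x :=
    fun c x => TensorProduct.tmul_smul c (1 : t'.Fiber B') x
  have him₀ : ∀ (c : S) (x : X), im S s' X (c • x) = c • im S s' X x :=
    fun c x => TensorProduct.tmul_smul c (1 : s'.Fiber S) x
  have hz : ∀ b : S, b ∈ P.comap φ ↔ ∃ n : ℕ, (φ b) ^ n • im B' t' N' x' = 0 := by
    intro b
    rw [Ideal.mem_comap, hx' (φ b)]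
    refine exists_congr fun n => ?_
    rw [him]
  have key := field_down (k := s'.ResidueField) (K := t'.ResidueField) (S₀ := S) (S := B')
    φ.toRingHom (M₀ := (s'.Fiber S) ⊗[S] X) (M := (t'.Fiber B') ⊗[B'] N')
    (fun b c m => smul_comm b c m) (fun x c m => smul_comm x c m) β hβ hsemi
  obtain ⟨m₀, hm₀⟩ := key (P.comap φ) (im B' t' N' x') hz
  obtain ⟨r, hr, x, hx⟩ := exists_smul_eq_im s' X m₀
  have hu := isUnit_algebraMap (S := S) s' hr
  refine ⟨x, fun b => ?_⟩
  rw [hm₀ b]
  refine exists_congr fun n => ?_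
  rw [him₀, ← hx, smul_comm, hu.smul_eq_zero]

end DownGen

section Down

variable {A B : Type u} [CommRing A] [CommRing B] [Algebra A B] (N : Type u) [AddCommGroup N]
  [Module B N]
  (A' B' N' : Type u) [CommRing A'] [CommRing B'] [Algebra A A'] [Algebra B B']
  [Algebra A' B'] [Algebra A B'] [IsScalarTower A B B'] [IsScalarTower A A' B']
  [AddCommGroup N'] [Module B' N'] [Module B N'] [IsScalarTower B B' N'] [Module A' N']
  [IsScalarTower A' B' N'] (f : N →ₗ[B] N')
  (G : Type u) [CommRing G] [Algebra A G] [Algebra G A'] [IsScalarTower A G A']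

/-- pushing an associated prime of the fibre module from the big base change down to a stage -/
theorem ass_down [Module A N] [IsScalarTower A B N] [Module A N'] [IsScalarTower A B N']
    [IsScalarTower A A' N'] (hBC : IsBaseChange A' (f.restrictScalars A))
    (t' : Ideal A') [t'.IsPrime] (s' : Ideal G) [s'.IsPrime]
    (hs' : s' = t'.comap (algebraMap G A'))
    (P : Ideal B') [P.IsPrime] [P.LiesOver t']
    [(P.comap (phi (A := A) (B := B) A' B' G)).LiesOver s']
    (hass : FlatCA.fiberIdeal t' P ∈ associatedPrimes (t'.Fiber B') (FlatCA.fiberMod t' B' N')) :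
    FlatCA.fiberIdeal s' (P.comap (phi (A := A) (B := B) A' B' G)) ∈
      associatedPrimes (s'.Fiber (B ⊗[A] G))
        (FlatCA.fiberMod s' (B ⊗[A] G) ((B ⊗[A] G) ⊗[B] N)) := by
  -- the `G`-module structure on `N'`
  letI iGN' : Module G N' := Module.compHom N' (algebraMap G A')
  haveI : IsScalarTower G A' N' := ⟨fun g a n => by
    change (g • a) • n = algebraMap G A' g • (a • n)
    rw [Algebra.smul_def, mul_smul]⟩
  haveI : IsScalarTower A G N' := ⟨fun a g n => by
    change algebraMap G A' (a • g) • n = a • (algebraMap G A' g • n)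
    rw [Algebra.smul_def, map_mul, ← IsScalarTower.algebraMap_apply A G A', mul_smul,
      algebraMap_smul]⟩
  obtain ⟨ψG, hψG⟩ : ∃ ψG : ((B ⊗[A] G) ⊗[B] N) →ₗ[G] N',
      ∀ y, ψG y = psi N A' B' N' f G y :=
    ⟨{ toFun := fun y => psi N A' B' N' f G y
       map_add' := fun y₁ y₂ => map_add _ y₁ y₂
       map_smul' := fun g y => by
         show psi N A' B' N' f G (g • y) = algebraMap G A' g • psi N A' B' N' f G y
         exact psi_smul_G N A' B' N' f G g y }, fun y => rfl⟩
  have hι₀ : IsBaseChange G ((TensorProduct.mk B (B ⊗[A] G) N 1).restrictScalars A) :=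
    isBaseChange_restrict N G (B ⊗[A] G) ((B ⊗[A] G) ⊗[B] N)
      (TensorProduct.mk B (B ⊗[A] G) N 1) (TensorProduct.isBaseChange B N (B ⊗[A] G))
  have hψ : IsBaseChange A' ψG := by
    have e : (ψG.restrictScalars A) ∘ₗ ((TensorProduct.mk B (B ⊗[A] G) N 1).restrictScalars A)
        = f.restrictScalars A := by
      refine LinearMap.ext fun n => ?_
      show ψG ((1 : B ⊗[A] G) ⊗ₜ[B] n) = f n
      rw [hψG]
      exact psi_one_tmul N A' B' N' f G n
    have h2 : IsBaseChange A' ((ψG.restrictScalars A) ∘ₗ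
        ((TensorProduct.mk B (B ⊗[A] G) N 1).restrictScalars A)) := by
      rw [e]
      exact hBC
    exact IsBaseChange.of_comp hι₀ h2
  have hψs : ∀ (c : B ⊗[A] G) (y : (B ⊗[A] G) ⊗[B] N),
      ψG (c • y) = phi A' B' G c • ψG y := fun c y => by
    rw [hψG, hψG]
    exact psi_smul N A' B' N' f G c y
  exact ass_down_gen (phi (A := A) (B := B) A' B' G) ψG hψ hψs t' s' hs' P hass

/-- going up along the comparison map of pushouts when the map of base rings is integral -/
theorem exists_prime_over_stage [Algebra.IsPushout A B A' B'] [Algebra.IsIntegral G A']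
    (P : Ideal B') (Q : Ideal (B ⊗[A] G)) [Q.IsPrime]
    (hPQ : P.comap (phi (A := A) (B := B) A' B' G) ≤ Q) :
    ∃ Q' : Ideal B', P ≤ Q' ∧ Q'.IsPrime ∧
      Q'.comap (phi (A := A) (B := B) A' B' G) = Q := by
  letI iBs : Algebra (B ⊗[A] G) B' := (phi (A := A) (B := B) A' B' G).toRingHom.toAlgebra
  letI iG : Algebra G B' := ((algebraMap A' B').comp (algebraMap G A')).toAlgebra
  haveI : IsScalarTower G A' B' := IsScalarTower.of_algebraMap_eq' rfl
  haveI : IsScalarTower G (B ⊗[A] G) B' :=
    IsScalarTower.of_algebraMap_eq (fun g =>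
      (phi_algebraMap_G (A := A) (B := B) A' B' G g).symm)
  haveI : Algebra.IsIntegral (B ⊗[A] G) B' := by
    refine ⟨fun y => ?_⟩
    have hpush : IsBaseChange B (IsScalarTower.toAlgHom A A' B').toLinearMap :=
      Algebra.IsPushout.out
    refine hpush.inductionOn y (fun y => IsIntegral (B ⊗[A] G) y) isIntegral_zero ?_ ?_ ?_
    · intro a'
      change IsIntegral (B ⊗[A] G) (algebraMap A' B' a')
      have h1 : IsIntegral G a' := Algebra.IsIntegral.isIntegral a'
      have h2 : IsIntegral G (algebraMap A' B' a') := h1.algebraMap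
      exact h2.tower_top
    · intro b y hy
      have e : b • y = algebraMap (B ⊗[A] G) B' (algebraMap B (B ⊗[A] G) b) * y := by
        rw [Algebra.smul_def]
        congr 1
        exact (phi_algebraMap_B (A := A) A' B' G b).symm
      rw [e]
      exact isIntegral_algebraMap.mul hy
    · intro y₁ y₂ h₁ h₂
      exact h₁.add h₂
  obtain ⟨Q', hge, hprime, hcomap⟩ := Ideal.exists_ideal_over_prime_of_isIntegral Q P hPQ
  refine ⟨Q', hge, hprime, ?_⟩
  ext x
  exact Ideal.ext_iff.mp hcomap x

/-- **Transfer of an impurity downwards** along an integral map of base rings `G → A'` for which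
`t` is the only prime of `A'` over its contraction. -/
theorem down_isImpurity (p : Ideal A) [p.IsPrime] (t' t : Ideal A') [t'.IsPrime] [t.IsPrime]
    (P : Ideal B') [P.IsPrime] (himp : FlatCA.IsImpurity A B N p A' B' N' f t' t P)
    [Algebra.IsIntegral G A']
    (huniq : ∀ t₃ : Ideal A', t₃.IsPrime →
      t₃.comap (algebraMap G A') = t.comap (algebraMap G A') → t₃ = t)
    (s' s : Ideal G) [s'.IsPrime] [s.IsPrime] (hs' : s' = t'.comap (algebraMap G A'))
    (hs : s = t.comap (algebraMap G A')) :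
    ∃ (P₀ : Ideal (B ⊗[A] G)) (_ : P₀.IsPrime),
      FlatCA.IsImpurity A B N p G (B ⊗[A] G) ((B ⊗[A] G) ⊗[B] N)
        (TensorProduct.mk B (B ⊗[A] G) N 1) s' s P₀ := by
  obtain ⟨hpush, hbc, hle, hover, hPover, hass, hno⟩ := himp
  haveI := hpush
  haveI := hover
  haveI := hPover
  letI : Module A N := Module.compHom N (algebraMap A B)
  haveI : IsScalarTower A B N := ⟨fun a b n => by
    change (a • b) • n = algebraMap A B a • (b • n)
    rw [Algebra.smul_def, mul_smul]⟩
  letI : Module A N' := Module.compHom N' (algebraMap A B')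
  haveI : IsScalarTower A B N' := ⟨fun a b n => by
    change (a • b) • n = algebraMap A B' a • (b • n)
    rw [← algebraMap_smul B' (a • b) n, ← algebraMap_smul B' b n, Algebra.smul_def, map_mul,
      ← IsScalarTower.algebraMap_apply A B B', mul_smul]⟩
  haveI : IsScalarTower A A' N' := ⟨fun a a' n => by
    change (a • a') • n = algebraMap A B' a • (a' • n)
    rw [← algebraMap_smul B' (a • a') n, ← algebraMap_smul B' a' n, Algebra.smul_def, map_mul,
      ← IsScalarTower.algebraMap_apply A A' B', mul_smul]⟩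
  have hBC : IsBaseChange A' (f.restrictScalars A) := isBaseChange_restrict N A' B' N' f hbc
  subst hs
  haveI hLO : (P.comap (phi (A := A) (B := B) A' B' G)).LiesOver s' := by
    rw [hs']
    exact liesOver_stage A' B' G t' P
  refine ⟨P.comap (phi (A := A) (B := B) A' B' G), inferInstance,
    ⟨inferInstance, TensorProduct.isBaseChange B N (B ⊗[A] G), ?_,
      liesOver_base A' G p t, hLO, ?_, ?_⟩⟩
  · rw [hs']
    exact Ideal.comap_mono hle
  · exact ass_down N A' B' N' f G hBC t' s' hs' P hass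
  · intro Q _ hPQ hover''
    obtain ⟨Q', hPQ', hQ'prime, hQ'comap⟩ :=
      exists_prime_over_stage (A := A) (B := B) A' B' G P Q hPQ
    haveI := hQ'prime
    have h3 : (Q'.comap (algebraMap A' B')).comap (algebraMap G A') =
        t.comap (algebraMap G A') := by
      ext g
      have h4 : g ∈ t.comap (algebraMap G A') ↔ algebraMap G (B ⊗[A] G) g ∈ Q := by
        conv_lhs => rw [hover''.over]
        rfl
      rw [h4, ← hQ'comap, Ideal.mem_comap, Ideal.mem_comap, Ideal.mem_comap, phi_algebraMap_G]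
    have h5 := huniq _ inferInstance h3
    exact hno Q' hPQ' ⟨h5.symm⟩

end Down

section Main

open FlatCA

/-- the core of the descent to an elementary etale neighbourhood: up along a flat map, then down
along an integral map with a single prime over the contraction -/
theorem S1246_core {A B : Type u} [CommRing A] [CommRing B] [Algebra A B]
    [Algebra.FiniteType A B] (N : Type u) [AddCommGroup N] [Module B N] (p : Ideal A)
    [p.IsPrime]
    (A₁ B₁ N₁ : Type u) [CommRing A₁] [CommRing B₁] [Algebra A A₁] [Algebra B B₁]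
    [Algebra A₁ B₁] [Algebra A B₁] [IsScalarTower A B B₁] [IsScalarTower A A₁ B₁]
    [AddCommGroup N₁] [Module B₁ N₁] [Module B N₁] [IsScalarTower B B₁ N₁] [Module A₁ N₁]
    [IsScalarTower A₁ B₁ N₁] (f₁ : N →ₗ[B] N₁) (t' t : Ideal A₁) [t'.IsPrime] [t.IsPrime]
    (P : Ideal B₁) [P.IsPrime] (himp : FlatCA.IsImpurity A B N p A₁ B₁ N₁ f₁ t' t P)
    (R' : Type u) [CommRing R'] [Algebra A R']
    (A₂ : Type u) [CommRing A₂] [Algebra A A₂] [Algebra A₁ A₂] [Algebra R' A₂]
    [IsScalarTower A A₁ A₂] [IsScalarTower A R' A₂] [Module.Flat A₁ A₂]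
    [Algebra.IsIntegral R' A₂] (t₂ : Ideal A₂) [t₂.IsPrime]
    (ht₂ : t₂.comap (algebraMap A₁ A₂) = t)
    (huniq : ∀ t₃ : Ideal A₂, t₃.IsPrime →
      t₃.comap (algebraMap R' A₂) = t₂.comap (algebraMap R' A₂) → t₃ = t₂)
    (PR : Ideal R') [PR.IsPrime] (hPR : PR = t₂.comap (algebraMap R' A₂)) :
    ∃ (s' : Ideal R') (_ : s'.IsPrime) (P₃ : Ideal (B ⊗[A] R')) (_ : P₃.IsPrime),
      FlatCA.IsImpurity A B N p R' (B ⊗[A] R') ((B ⊗[A] R') ⊗[B] N)
        (TensorProduct.mk B (B ⊗[A] R') N 1) s' PR P₃ := by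
  have hle : t' ≤ t := himp.2.2.1
  obtain ⟨l, hl⟩ := desc_canon N A₁ B₁ N₁ f₁ p t' t P himp
  haveI ht₂over : t₂.LiesOver t := ⟨ht₂.symm⟩
  obtain ⟨t₂', ht₂'le, ht₂'prime, ht₂'over⟩ :=
    Ideal.exists_ideal_le_liesOver_of_le (p := t') (q := t) t₂ hle
  haveI := ht₂'prime
  have ht₂'A₁ : t₂'.comap (algebraMap A₁ A₂) = t' := (Ideal.over_def t₂' t').symm
  have h1 := hl A₁ (fun a _ => ⟨a, rfl⟩)
  have h2 := h1 (t₂'.comap (algebraMap A₁ A₂)) (t₂.comap (algebraMap A₁ A₂))
    (by rw [ht₂'A₁]; ext x; exact Iff.rfl) (by rw [ht₂]; ext x; exact Iff.rfl)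
  obtain ⟨P₀, hP₀prime, himp₀⟩ := h2
  haveI := hP₀prime
  have h3 := up_isImpurity N A₂ (B ⊗[A] A₂) ((B ⊗[A] A₂) ⊗[B] N)
    (TensorProduct.mk B (B ⊗[A] A₂) N 1) A₁ p t₂' t₂
    (TensorProduct.isBaseChange B N (B ⊗[A] A₂)) ht₂'le P₀ himp₀
  obtain ⟨P₂, hP₂prime, himp₂⟩ := h3
  haveI := hP₂prime
  have h4 := down_isImpurity N A₂ (B ⊗[A] A₂) ((B ⊗[A] A₂) ⊗[B] N)
    (TensorProduct.mk B (B ⊗[A] A₂) N 1) R' p t₂' t₂ P₂ himp₂ huniq
    (t₂'.comap (algebraMap R' A₂)) PR rfl hPR
  obtain ⟨P₃, hP₃prime, himp₃⟩ := h4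
  exact ⟨t₂'.comap (algebraMap R' A₂), inferInstance, P₃, hP₃prime, himp₃⟩

/-- **Impurities with quasi-finite base descend to elementary etale neighbourhoods.** -/
theorem S1246_main {A B : Type u} [CommRing A] [CommRing B] [Algebra A B]
    [Algebra.FiniteType A B] (N : Type u) [AddCommGroup N] [Module B N] (p : Ideal A)
    [p.IsPrime]
    (h : FlatCA.HasImpurity A B N p (fun A' _ _ t => ∃ _ : t.IsPrime,
      Algebra.FiniteType A A' ∧ Algebra.QuasiFiniteAt A t)) :
    FlatCA.HasImpurity A B N p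
      (fun A' _ _ t => ∃ _ : t.IsPrime, FlatCA.IsEtaleNhd A A' p t) := by
  obtain ⟨A₁, B₁, N₁, _, _, _, _, _, _, _, _, _, _, _, _, _, _, f₁, t', t, _, _, P, _, himp,
    _, hft, hqf⟩ := h
  haveI := hft
  haveI := hqf
  haveI hover : t.LiesOver p := himp.2.2.2.1
  obtain ⟨R', _, _, hét, PR, hPRprime, hPRover, e, he, P', hP'prime, hP'over, hP'comap, heP',
    hbij, hfin, huniq⟩ :=
    Algebra.exists_etale_isIdempotentElem_forall_liesOver_eq (R := A) (S := A₁) p t
  haveI := hét
  haveI := hPRprime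
  haveI := hPRover
  haveI := hP'prime
  haveI := hP'over
  haveI := hfin
  -- the primes of the localization
  have hdisj : Disjoint ((Submonoid.powers e : Submonoid (R' ⊗[A] A₁)) : Set (R' ⊗[A] A₁))
      (P' : Set (R' ⊗[A] A₁)) := (Ideal.disjoint_powers_iff_notMem_of_isPrime e).mpr heP'
  obtain ⟨t₂, ht₂def⟩ : ∃ t₂ : Ideal (Localization.Away e),
      t₂ = P'.map (algebraMap (R' ⊗[A] A₁) (Localization.Away e)) := ⟨_, rfl⟩
  haveI ht₂prime : t₂.IsPrime := by
    rw [ht₂def]
    exact IsLocalization.isPrime_of_isPrime_disjoint (Submonoid.powers e) _ P' hP'prime hdisj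
  have ht₂under : t₂.comap (algebraMap (R' ⊗[A] A₁) (Localization.Away e)) = P' := by
    rw [ht₂def]
    exact IsLocalization.under_map_of_isPrime_disjoint (Submonoid.powers e) _ hP'prime hdisj
  have ht₂A₁ : t₂.comap (algebraMap A₁ (Localization.Away e)) = t := by
    rw [IsScalarTower.algebraMap_eq A₁ (R' ⊗[A] A₁) (Localization.Away e), ← Ideal.comap_comap,
      ht₂under]
    exact hP'comap
  have ht₂R' : t₂.comap (algebraMap R' (Localization.Away e)) = PR := by
    rw [IsScalarTower.algebraMap_eq R' (R' ⊗[A] A₁) (Localization.Away e), ← Ideal.comap_comap,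
      ht₂under]
    exact (Ideal.over_def P' PR).symm
  haveI : Algebra.Etale A₁ (R' ⊗[A] A₁) := etale_right R' A₁
  haveI : Module.Flat A₁ (Localization.Away e) := inferInstance
  haveI : Algebra.IsIntegral R' (Localization.Away e) := Algebra.IsIntegral.of_finite R' _
  have huniq₂ : ∀ t₃ : Ideal (Localization.Away e), t₃.IsPrime →
      t₃.comap (algebraMap R' (Localization.Away e)) =
        t₂.comap (algebraMap R' (Localization.Away e)) → t₃ = t₂ := by
    intro t₃ ht₃ h3
    haveI := ht₃
    have hP'' : t₃.comap (algebraMap (R' ⊗[A] A₁) (Localization.Away e)) = P' := by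
      refine huniq _ inferInstance ⟨?_⟩ ?_
      · rw [Ideal.under_def, Ideal.comap_comap, ← IsScalarTower.algebraMap_eq, h3, ht₂R']
      · intro he'
        exact ht₃.ne_top (Ideal.eq_top_of_isUnit_mem _ he'
          (IsLocalization.Away.algebraMap_isUnit e))
    have h5 := IsLocalization.map_under (Submonoid.powers e) (Localization.Away e) t₃
    rw [Ideal.under_def, hP''] at h5
    rw [← h5, ht₂def]
  have hcore := S1246_core N p A₁ B₁ N₁ f₁ t' t P himp R' (Localization.Away e) t₂ ht₂A₁
    huniq₂ PR ht₂R'.symm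
  obtain ⟨s', hs'prime, P₃, hP₃prime, himp₃⟩ := hcore
  exact ⟨R', B ⊗[A] R', (B ⊗[A] R') ⊗[B] N, inferInstance, inferInstance, inferInstance,
    inferInstance, inferInstance, inferInstance, inferInstance, inferInstance, inferInstance,
    inferInstance, inferInstance, inferInstance, inferInstance, inferInstance,
    TensorProduct.mk B (B ⊗[A] R') N 1, s', PR, hs'prime, hPRprime, P₃, hP₃prime, himp₃,
    hPRprime, hét, hPRover, hbij⟩

/-- **Purity along a fibre is preserved by base changes of finite type which are quasi-finite at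
the point.** -/
theorem S1226_main {A B : Type u} [CommRing A] [CommRing B] [Algebra A B]
    [Algebra.FiniteType A B] (N : Type u) [AddCommGroup N] [Module B N] (p : Ideal A)
    [p.IsPrime] (A' B' N' : Type u) [CommRing A'] [CommRing B'] [Algebra A A'] [Algebra B B']
    [Algebra A' B'] [Algebra A B'] [IsScalarTower A B B'] [IsScalarTower A A' B']
    [Algebra.IsPushout A B A' B'] [AddCommGroup N'] [Module B' N'] [Module B N']
    [IsScalarTower B B' N'] (f : N →ₗ[B] N') (hf : IsBaseChange B' f)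
    (p' : Ideal A') [p'.IsPrime] [p'.LiesOver p] [Algebra.FiniteType A A']
    [Algebra.QuasiFiniteAt A p'] (h : FlatCA.IsPureAlong A B N p) :
    FlatCA.IsPureAlong A' B' N' p' := by
  intro A'' B'' N'' _ _ _ _ _ _ _ _ _ _ _ _ _ _ f' t' t _ _ P _ hnhd himp
  letI iAA'' : Algebra A A'' := ((algebraMap A' A'').comp (algebraMap A A')).toAlgebra
  letI iBB'' : Algebra B B'' := ((algebraMap B' B'').comp (algebraMap B B')).toAlgebra
  letI iAB'' : Algebra A B'' := ((algebraMap A'' B'').comp (algebraMap A A'')).toAlgebra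
  haveI : IsScalarTower A A' A'' := IsScalarTower.of_algebraMap_eq' rfl
  haveI : IsScalarTower B B' B'' := IsScalarTower.of_algebraMap_eq' rfl
  haveI : IsScalarTower A A'' B'' := IsScalarTower.of_algebraMap_eq' rfl
  have key : ∀ a : A, algebraMap A B'' a = algebraMap B' B'' (algebraMap A B' a) := by
    intro a
    change algebraMap A'' B'' (algebraMap A' A'' (algebraMap A A' a)) = _
    rw [← IsScalarTower.algebraMap_apply A' A'' B'', IsScalarTower.algebraMap_apply A' B' B'',
      ← IsScalarTower.algebraMap_apply A A' B']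
  haveI : IsScalarTower A B' B'' := IsScalarTower.of_algebraMap_eq key
  haveI : IsScalarTower A B B'' := IsScalarTower.of_algebraMap_eq (fun a => by
    rw [key, IsScalarTower.algebraMap_apply A B B']
    rfl)
  letI : Module B N'' := Module.compHom N'' (algebraMap B B')
  haveI : IsScalarTower B B' N'' := ⟨fun b b' n => by
    change (b • b') • n = (algebraMap B B' b) • (b' • n)
    rw [Algebra.smul_def, mul_smul]⟩
  haveI : IsScalarTower B B'' N'' := ⟨fun b b'' n => by
    change (b • b'') • n = (algebraMap B B' b) • (b'' • n)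
    rw [Algebra.smul_def, mul_smul]
    change (algebraMap B' B'' (algebraMap B B' b)) • (b'' • n) = _
    rw [algebraMap_smul]⟩
  have himpA := Groth.Agent.Helper8.PureBC.impurity_trans N p A' B' N' f hf p' inferInstance
    A'' B'' N'' f' t' t P himp
  obtain ⟨hétale, hover, hbij⟩ := hnhd
  haveI := hétale
  haveI := hover
  haveI : Algebra.FiniteType A A'' :=
    Algebra.FiniteType.trans (inferInstance : Algebra.FiniteType A A') inferInstance
  haveI : Algebra.QuasiFinite A' A'' := inferInstance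
  haveI : Algebra.QuasiFinite A' (Localization.AtPrime t) := inferInstance
  letI := Localization.AtPrime.algebraOfLiesOver p' t
  haveI : Algebra.QuasiFinite (Localization.AtPrime p') (Localization.AtPrime t) :=
    Algebra.QuasiFinite.of_restrictScalars A' _ _
  haveI : Algebra.QuasiFiniteAt A t :=
    Algebra.QuasiFinite.trans A (Localization.AtPrime p') (Localization.AtPrime t)
  have hQF : FlatCA.HasImpurity A B N p (fun A₁ _ _ t₁ => ∃ _ : t₁.IsPrime,
      Algebra.FiniteType A A₁ ∧ Algebra.QuasiFiniteAt A t₁) :=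
    ⟨A'', B'', N'', inferInstance, inferInstance, inferInstance, inferInstance, inferInstance,
      inferInstance, inferInstance, inferInstance, inferInstance, inferInstance, inferInstance,
      inferInstance, inferInstance, inferInstance, (f'.restrictScalars B).comp f, t', t,
      inferInstance, inferInstance, P, inferInstance, himpA, inferInstance, inferInstance,
      inferInstance⟩
  obtain ⟨A₂, B₂, N₂, _, _, _, _, _, _, _, _, _, _, _, _, _, _, f₂, s', s, _, _, P₂, _, himp₂,
    _, hnhd₂⟩ := S1246_main N p hQF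
  exact h A₂ B₂ N₂ f₂ s' s P₂ hnhd₂ himp₂

end Main

end Groth.Agent.Helper7.ImpDesc
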