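import Mathlib
import Groth.Prelude
import Groth.Agent.Lib.Helper7.ImpDesc.Up
import Groth.Agent.Lib.Helper7.Hens.AtPrimeA
import Groth.Agent.Lib.Helper7.Hens.AtPrimeC
import Groth.Agent.Lib.Helper7.Hens.LocalCase

/-!
# helper7: impurities over elementary etale neighbourhoods give impurities over the henselization

An elementary etale neighbourhood maps to the henselization of the local ring at the prime, and this
map is flat (the henselization is a direct factor of the base change of the neighbourhood to it);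
going down along this flat map produces the generization needed to transfer the impurity upwards.
-/

set_option linter.style.haveILetI false
set_option linter.unusedVariables false
set_option linter.unusedSectionVars false
set_option autoImplicit false
set_option backward.isDefEq.respectTransparency.types false
set_option synthInstance.maxHeartbeats 400000
set_option maxHeartbeats 1600000

universe u

open TensorProduct

namespace Groth.Agent.Helper7.ImpDesc

attribute [local instance] Algebra.TensorProduct.rightAlgebra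

section FlatHens

variable {R : Type u} [CommRing R] (p : Ideal R) [p.IsPrime]
  (Rh : Type u) [CommRing Rh] [IsLocalRing Rh]
  [Algebra (Localization.AtPrime p) Rh] [IsLocalHom (algebraMap (Localization.AtPrime p) Rh)]
  [Hensel.IsHenselization (Localization.AtPrime p) Rh] [Algebra R Rh]
  [IsScalarTower R (Localization.AtPrime p) Rh]
  (S : Type u) [CommRing S] [Algebra R S]

include p in
/-- the henselization is flat over every etale algebra mapping to it -/
theorem flat_of_algHom [Algebra.Etale R S] (f : S →ₐ[R] Rh) : f.toRingHom.Flat := by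
  haveI : Module.Flat R Rh := HensAtPrime.flat_base p Rh
  obtain ⟨e, he, hker⟩ := HensAtPrime.exists_idempotent_ker Rh f
  obtain ⟨π, hπ⟩ : ∃ π : Rh ⊗[R] S →ₐ[Rh] Rh, π = Algebra.TensorProduct.lift (AlgHom.id Rh Rh)
      f (fun _ _ => Commute.all _ _) := ⟨_, rfl⟩
  rw [← hπ] at hker
  have hsurj : Function.Surjective π := fun x => ⟨x ⊗ₜ[R] 1, by rw [hπ]; simp⟩
  have hπs : ∀ s : S, π ((1 : Rh) ⊗ₜ[R] s) = f s := fun s => by rw [hπ]; simp
  have h1 : (algebraMap S (Rh ⊗[R] S)).Flat := by
    rw [RingHom.flat_algebraMap_iff]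
    exact Module.Flat.of_linearEquiv (Algebra.TensorProduct.commRight R S Rh).symm.toLinearEquiv
  have h2 : π.toRingHom.Flat := by
    letI iT : Algebra (Rh ⊗[R] S) Rh := π.toRingHom.toAlgebra
    haveI : IsLocalization.Away (1 - e) Rh :=
      IsLocalization.away_of_isIdempotentElem he.one_sub
        (by rw [sub_sub_cancel]; exact hker) hsurj
    exact IsLocalization.flat Rh (Submonoid.powers (1 - e))
  have h3 : π.toRingHom.comp (algebraMap S (Rh ⊗[R] S)) = f.toRingHom :=
    RingHom.ext (fun s => hπs s)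
  rw [← h3]
  exact RingHom.Flat.comp h1 h2

end FlatHens

section UpFlat

/-- **Transfer of an impurity upwards along a flat map of base rings.** -/
theorem up_flat {A B : Type u} [CommRing A] [CommRing B] [Algebra A B]
    [Algebra.FiniteType A B] (N : Type u) [AddCommGroup N] [Module B N] (p : Ideal A)
    [p.IsPrime]
    (A₁ B₁ N₁ : Type u) [CommRing A₁] [CommRing B₁] [Algebra A A₁] [Algebra B B₁]
    [Algebra A₁ B₁] [Algebra A B₁] [IsScalarTower A B B₁] [IsScalarTower A A₁ B₁]
    [AddCommGroup N₁] [Module B₁ N₁] [Module B N₁] [IsScalarTower B B₁ N₁] [Module A₁ N₁]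
    [IsScalarTower A₁ B₁ N₁] (f₁ : N →ₗ[B] N₁) (t' t : Ideal A₁) [t'.IsPrime] [t.IsPrime]
    (P : Ideal B₁) [P.IsPrime] (himp : FlatCA.IsImpurity A B N p A₁ B₁ N₁ f₁ t' t P)
    (A₂ : Type u) [CommRing A₂] [Algebra A A₂] [Algebra A₁ A₂]
    [IsScalarTower A A₁ A₂] [Module.Flat A₁ A₂] (t₂ : Ideal A₂) [t₂.IsPrime]
    (ht₂ : t₂.comap (algebraMap A₁ A₂) = t) :
    ∃ (t₂' : Ideal A₂) (_ : t₂'.IsPrime) (P₂ : Ideal (B ⊗[A] A₂)) (_ : P₂.IsPrime),
      FlatCA.IsImpurity A B N p A₂ (B ⊗[A] A₂) ((B ⊗[A] A₂) ⊗[B] N)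
        (TensorProduct.mk B (B ⊗[A] A₂) N 1) t₂' t₂ P₂ := by
  have hle : t' ≤ t := himp.2.2.1
  obtain ⟨l, hl⟩ := desc_canon N A₁ B₁ N₁ f₁ p t' t P himp
  haveI ht₂over : t₂.LiesOver t := ⟨ht₂.symm⟩
  obtain ⟨t₂', ht₂'le, ht₂'prime, ht₂'over⟩ :=
    Ideal.exists_ideal_le_liesOver_of_le (p := t') (q := t) t₂ hle
  haveI := ht₂'prime
  have ht₂'A₁ : t₂'.comap (algebraMap A₁ A₂) = t' := (Ideal.over_def t₂' t').symm
  have h1 := hl A₁ (fun a _ => ⟨a, rfl⟩)
  have h2 := h1 (t₂'.comap (algebraMap A₁ A₂)) (t₂.comap (algebraMap A₁ A₂))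
    (by rw [ht₂'A₁]; ext x; exact Iff.rfl) (by rw [ht₂]; ext x; exact Iff.rfl)
  obtain ⟨P₀, hP₀prime, himp₀⟩ := h2
  haveI := hP₀prime
  have h3 := up_isImpurity N A₂ (B ⊗[A] A₂) ((B ⊗[A] A₂) ⊗[B] N)
    (TensorProduct.mk B (B ⊗[A] A₂) N 1) A₁ p t₂' t₂
    (TensorProduct.isBaseChange B N (B ⊗[A] A₂)) ht₂'le P₀ himp₀
  obtain ⟨P₂, hP₂prime, himp₂⟩ := h3
  exact ⟨t₂', ht₂'prime, P₂, hP₂prime, himp₂⟩

/-- the transfer to a henselization, for an arbitrary model of the henselization -/
theorem S9000_core {A B : Type u} [CommRing A] [CommRing B] [Algebra A B]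
    [Algebra.FiniteType A B] (N : Type u) [AddCommGroup N] [Module B N] (p : Ideal A)
    [p.IsPrime]
    (h : FlatCA.HasImpurity A B N p
      (fun A' _ _ t => ∃ _ : t.IsPrime, FlatCA.IsEtaleNhd A A' p t))
    (Rh : Type u) [CommRing Rh] [IsLocalRing Rh]
    [Algebra (Localization.AtPrime p) Rh] [IsLocalHom (algebraMap (Localization.AtPrime p) Rh)]
    [Hensel.IsHenselization (Localization.AtPrime p) Rh] [Algebra A Rh]
    [IsScalarTower A (Localization.AtPrime p) Rh] :
    FlatCA.HasImpurity A B N p (fun A' _ _ t => ∃ (_ : IsLocalRing A')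
      (_ : Algebra (Localization.AtPrime p) A') (_ : IsScalarTower A (Localization.AtPrime p) A')
      (_ : IsLocalHom (algebraMap (Localization.AtPrime p) A')),
      Hensel.IsHenselization (Localization.AtPrime p) A' ∧ t = IsLocalRing.maximalIdeal A') := by
  obtain ⟨A₁, B₁, N₁, _, _, _, _, _, _, _, _, _, _, _, _, _, _, f₁, t', t, _, _, P, _, himp,
    _, hét, hover, hbij⟩ := h
  haveI := hét
  have hq : p = t.comap (algebraMap A A₁) := hover.over
  have hbij' : Function.Bijective (Ideal.ResidueField.map p t (algebraMap A A₁) hq) := hbij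
  obtain ⟨φ, hφ⟩ := HensAtPrime.exists_algHom p Rh t hq hbij'
  letI : Algebra A₁ Rh := φ.toRingHom.toAlgebra
  haveI : IsScalarTower A A₁ Rh := IsScalarTower.of_algebraMap_eq (fun a => (φ.commutes a).symm)
  haveI : Module.Flat A₁ Rh := flat_of_algHom p Rh A₁ φ
  have h1 := up_flat N p A₁ B₁ N₁ f₁ t' t P himp Rh (IsLocalRing.maximalIdeal Rh) hφ
  obtain ⟨t₂', ht₂'prime, P₂, hP₂prime, himp₂⟩ := h1
  exact ⟨Rh, B ⊗[A] Rh, (B ⊗[A] Rh) ⊗[B] N, inferInstance, inferInstance, inferInstance,
    inferInstance, inferInstance, inferInstance, inferInstance, inferInstance, inferInstance,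
    inferInstance, inferInstance, inferInstance, inferInstance, inferInstance,
    TensorProduct.mk B (B ⊗[A] Rh) N 1, t₂', IsLocalRing.maximalIdeal Rh, ht₂'prime,
    inferInstance, P₂, hP₂prime, himp₂, inferInstance, inferInstance, inferInstance,
    inferInstance, inferInstance, rfl⟩

/-- **From an elementary etale neighbourhood to the henselization.** -/
theorem S9000_main {A B : Type u} [CommRing A] [CommRing B] [Algebra A B]
    [Algebra.FiniteType A B] (N : Type u) [AddCommGroup N] [Module B N] (p : Ideal A)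
    [p.IsPrime]
    (h : FlatCA.HasImpurity A B N p
      (fun A' _ _ t => ∃ _ : t.IsPrime, FlatCA.IsEtaleNhd A A' p t)) :
    FlatCA.HasImpurity A B N p (fun A' _ _ t => ∃ (_ : IsLocalRing A')
      (_ : Algebra (Localization.AtPrime p) A') (_ : IsScalarTower A (Localization.AtPrime p) A')
      (_ : IsLocalHom (algebraMap (Localization.AtPrime p) A')),
      Hensel.IsHenselization (Localization.AtPrime p) A' ∧ t = IsLocalRing.maximalIdeal A') := by
  letI iA : Algebra A (Hens.H (Localization.AtPrime p)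
      (IsLocalRing.maximalIdeal (Localization.AtPrime p))) :=
    ((algebraMap (Localization.AtPrime p) (Hens.H (Localization.AtPrime p)
      (IsLocalRing.maximalIdeal (Localization.AtPrime p)))).comp
      (algebraMap A (Localization.AtPrime p))).toAlgebra
  haveI : IsScalarTower A (Localization.AtPrime p) (Hens.H (Localization.AtPrime p)
      (IsLocalRing.maximalIdeal (Localization.AtPrime p))) := IsScalarTower.of_algebraMap_eq' rfl
  haveI := Hens.isHenselization_H (Localization.AtPrime p)
  exact S9000_core N p h (Hens.H (Localization.AtPrime p)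
    (IsLocalRing.maximalIdeal (Localization.AtPrime p)))

end UpFlat

end Groth.Agent.Helper7.ImpDesc
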