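import Mathlib
import Groth.Prelude
import Groth.Agent.Lib.Helper7.ImpDesc.Stage
import Groth.Agent.Lib.Helper7.Hens.AtPrimeMain

/-!
# helper7: impurities descend along directed colimits and from the henselization

An impurity whose base change ring is a directed colimit of `A`-algebras descends to a finite
stage, and an impurity over the henselization of the local ring at `p` descends to an elementary
etale ring map at `p`.
-/

set_option linter.style.haveILetI false
set_option linter.unusedVariables false
set_option linter.unusedSectionVars false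
set_option autoImplicit false
set_option backward.isDefEq.respectTransparency.types false
set_option synthInstance.maxHeartbeats 400000
set_option maxHeartbeats 1600000

universe u

open TensorProduct

namespace Groth.Agent.Helper7.ImpDesc

theorem exists_index {ι : Type u} [Preorder ι] (G : ι → Type u) [∀ i, CommRing (G i)]
    (g : ∀ i j, i ≤ j → G i →+* G j) (A' : Type u) [CommRing A'] [∀ i, Algebra (G i) A']
    (hcolim : FlatCA.IsDirectedColimitRing G g A') (l : List A') :
    ∃ i, ∀ a ∈ l, a ∈ Set.range (algebraMap (G i) A') := by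
  obtain ⟨hdir, hne, _, _, hcompat, hsurj, _⟩ := hcolim
  induction l with
  | nil => exact ⟨hne.some, fun a ha => absurd ha List.not_mem_nil⟩
  | cons a T ih =>
    obtain ⟨i, hi⟩ := ih
    obtain ⟨j, x, hx⟩ := hsurj a
    obtain ⟨k, hik, hjk⟩ := hdir.directed i j
    refine ⟨k, fun b hb => ?_⟩
    rcases List.mem_cons.mp hb with hba | hb
    · refine ⟨g j k hjk x, ?_⟩
      rw [hba, ← hx, ← hcompat j k hjk]
      rfl
    · obtain ⟨y, hy⟩ := hi b hb
      refine ⟨g i k hik y, ?_⟩
      rw [← hy, ← hcompat i k hik]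
      rfl

theorem S1296_main {A B : Type u} [CommRing A] [CommRing B] [Algebra A B]
    (N : Type u) [AddCommGroup N] [Module B N] (p : Ideal A) [p.IsPrime]
    {ι : Type u} [Preorder ι] (G : ι → Type u) [∀ i, CommRing (G i)] [∀ i, Algebra A (G i)]
    (g : ∀ i j, i ≤ j → G i →ₐ[A] G j)
    (A' : Type u) [CommRing A'] [Algebra A A'] [∀ i, Algebra (G i) A']
    [∀ i, IsScalarTower A (G i) A']
    (hcolim : FlatCA.IsDirectedColimitRing G (fun i j h => (g i j h).toRingHom) A')
    (B' N' : Type u) [CommRing B'] [Algebra B B'] [Algebra A' B'] [Algebra A B']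
    [IsScalarTower A B B'] [IsScalarTower A A' B']
    [AddCommGroup N'] [Module B' N'] [Module B N'] [IsScalarTower B B' N'] [Module A' N']
    [IsScalarTower A' B' N']
    (f : N →ₗ[B] N') (t' t : Ideal A') [t'.IsPrime] [t.IsPrime] (P : Ideal B') [P.IsPrime]
    (himp : FlatCA.IsImpurity A B N p A' B' N' f t' t P) :
    ∃ i : ι, FlatCA.HasImpurity A B N p
      (fun A'' _ _ t'' => ∃ e : A'' ≃ₐ[A] G i, t''.map e = t.comap (algebraMap (G i) A')) := by
  obtain ⟨l, hl⟩ := desc N A' B' N' f p t' t P himp
  obtain ⟨i, hi⟩ := exists_index G _ A' hcolim l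
  refine ⟨i, hl (G i) hi _ ⟨AlgEquiv.refl, ?_⟩⟩
  exact le_antisymm (Ideal.map_le_iff_le_comap.mpr (fun x hx => hx))
    (fun x hx => Ideal.mem_map_of_mem (AlgEquiv.refl : G i ≃ₐ[A] G i) hx)

theorem S1248_main {A B : Type u} [CommRing A] [CommRing B] [Algebra A B]
    (N : Type u) [AddCommGroup N] [Module B N] (p : Ideal A) [p.IsPrime]
    (h : FlatCA.HasImpurity A B N p (fun A' _ _ t => ∃ (_ : IsLocalRing A')
        (_ : Algebra (Localization.AtPrime p) A')
        (_ : IsScalarTower A (Localization.AtPrime p) A')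
        (_ : IsLocalHom (algebraMap (Localization.AtPrime p) A')),
        Hensel.IsHenselization (Localization.AtPrime p) A' ∧ t = IsLocalRing.maximalIdeal A')) :
    FlatCA.HasImpurity A B N p (fun A' _ _ t => ∃ _ : t.IsPrime, FlatCA.IsEtaleNhd A A' p t) := by
  obtain ⟨A', B', N', _, _, _, _, _, _, _, _, _, _, _, _, _, _, f, t', t, _, _, P, _, himp,
    hloc, halg, htower, hlocal, hhens, ht⟩ := h
  obtain ⟨l, hl⟩ := desc N A' B' N' f p t' t P himp
  haveI := hloc
  letI := halg
  haveI := htower
  haveI := hlocal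
  haveI := hhens
  obtain ⟨S, _, _, hS, φ, hφ⟩ := HensAtPrime.InIm.exists_common (R := A) (Rh := A')
    (fun i : Fin l.length => l.get i) (fun i => HensAtPrime.inIm_all p A' _)
  letI : Algebra S A' := φ.toRingHom.toAlgebra
  haveI : IsScalarTower A S A' := IsScalarTower.of_algebraMap_eq (fun a => (φ.commutes a).symm)
  refine hl S ?_ _ ?_
  · intro a ha
    obtain ⟨n, rfl⟩ := List.mem_iff_get.mp ha
    exact hφ n
  · subst ht
    have hq := HensAtPrime.comap_comap_eq p A' φ
    have hbij := HensAtPrime.residueField_bijective p A' φ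
      ((IsLocalRing.maximalIdeal A').comap φ.toRingHom) rfl hq
    refine ⟨inferInstance, hS, ⟨hq⟩, ?_⟩
    exact hbij

end Groth.Agent.Helper7.ImpDesc
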